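import Cfsg.Agent.SpFourResidual.Core
import Cfsg.Agent.Classical.MaxBridge
import Cfsg.Agent.Classical.Symp.Card

/-!
Residual members of the maximal subgroups of the symplectic group in four dimensions in characteristic two.
-/

set_option autoImplicit false
set_option linter.unusedSectionVars false
set_option linter.style.haveILetI false

namespace Cfsg.Lib.SpFourResidual

open Matrix Cfsg.Lie Cfsg.Geo Cfsg.Lib.Classical
open scoped MatrixGroups

universe u

variable {F : Type u} [Field F] [Fintype F] [CharP F 2]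

/-- The coordinates of the antidiagonal form. -/
def toFour : Fin 2 ⊕ Fin 2 ≃ Fin 4 where
  toFun := Sum.elim ![0, 1] ![3, 2]
  invFun := ![Sum.inl 0, Sum.inl 1, Sum.inr 1, Sum.inr 0]
  left_inv := by decide
  right_inv := by decide

theorem alt_toFour (u v : Fin 2 ⊕ Fin 2 → F) :
    altForm4 (u ∘ toFour.symm) (v ∘ toFour.symm) = Cfsg.sympForm 2 F u v := by
  simp [altForm4, Cfsg.sympForm, toFour, Matrix.J, Matrix.mulVec, dotProduct, Matrix.fromBlocks, Fintype.sum_sum_type,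
    Fin.sum_univ_two, Matrix.one_apply, CharTwo.neg_eq]
  ring

theorem mulVec_toFour (g : GL (Fin 2 ⊕ Fin 2) F) (v : Fin 2 ⊕ Fin 2 → F) :
    ((glReindex toFour g : GL (Fin 4) F) : Matrix (Fin 4) (Fin 4) F) *ᵥ (v ∘ toFour.symm) =
      ((g : Matrix (Fin 2 ⊕ Fin 2) (Fin 2 ⊕ Fin 2) F) *ᵥ v) ∘ toFour.symm := by
  show Matrix.reindex toFour toFour (g : Matrix (Fin 2 ⊕ Fin 2) (Fin 2 ⊕ Fin 2) F) *ᵥ _ = _
  rw [Matrix.reindex_apply, Matrix.submatrix_mulVec_equiv]
  simp [Function.comp_assoc]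

theorem mem_Sp4_toFour {g : GL (Fin 2 ⊕ Fin 2) F} :
    glReindex toFour g ∈ Sp4 F ↔ g ∈ Cfsg.spGL 2 F := by
  constructor
  · intro h u v
    have h1 := mem_Sp4.1 h (u ∘ toFour.symm) (v ∘ toFour.symm)
    rw [mulVec_toFour, mulVec_toFour, alt_toFour, alt_toFour] at h1
    exact h1
  · intro h
    refine mem_Sp4.2 fun u v => ?_
    have h1 := h (u ∘ toFour) (v ∘ toFour)
    rw [← alt_toFour, ← alt_toFour] at h1
    have e : ∀ w : Fin 4 → F, (w ∘ toFour) ∘ toFour.symm = w := fun w => by simp [Function.comp_assoc]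
    simp only [Cfsg.glToMat, Units.coeHom_apply, ← mulVec_toFour, e] at h1
    exact h1

theorem card_spGL_four : Nat.card (Cfsg.spGL 2 F) =
    Nat.card F ^ 4 * ((Nat.card F ^ 2 - 1) * (Nat.card F ^ 4 - 1)) := by
  rw [← range_sympToGL (F := F) 2, ← Nat.card_congr (MonoidHom.ofInjective
    ((linToGL _ F).injective.comp Subtype.val_injective : Function.Injective (sympToGL 2 F))).toEquiv,
    card_bilinIsom_symplectic 2 (sympBilin_isAlt 2 F) (sympBilin_nondegenerate 2 F) (finrank_sympSpace 2 F)]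
  rw [Finset.prod_range_succ, Finset.prod_range_one]
  norm_num

theorem scalars_bot {P : Subgroup (GL (Fin 2 ⊕ Fin 2) F)} (hP : P ≤ Cfsg.spGL 2 F) :
    (scalars (Fin 2 ⊕ Fin 2) F).subgroupOf P = ⊥ := by
  rw [Subgroup.eq_bot_iff_forall]
  rintro ⟨g, hg⟩ hs
  obtain ⟨c, hc⟩ := (mem_scalars_iff g).1 (Subgroup.mem_subgroupOf.1 hs)
  have h := mem_Sp4.1 (mem_Sp4_toFour.2 (hP hg)) (Pi.single 0 1 ∘ toFour ∘ toFour.symm)
    (Pi.single 3 1 ∘ toFour ∘ toFour.symm)
  rw [← Function.comp_assoc, ← Function.comp_assoc, mulVec_toFour, mulVec_toFour, alt_toFour, alt_toFour, hc] at h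
  have hc2 : (c : F) ^ 2 = 1 := by
    have h' : (c : F) * (c : F) * Cfsg.sympForm 2 F (Pi.single 0 1 ∘ toFour) (Pi.single 3 1 ∘ toFour) =
        Cfsg.sympForm 2 F (Pi.single 0 1 ∘ toFour) (Pi.single 3 1 ∘ toFour) := by
      conv_rhs => rw [← h]
      rw [← alt_toFour, ← alt_toFour, Matrix.smul_mulVec, Matrix.smul_mulVec, Matrix.one_mulVec, Matrix.one_mulVec]
      simp [altForm4, Function.comp]
    rw [← alt_toFour] at h'
    have e : altForm4 ((Pi.single 0 (1 : F) ∘ toFour) ∘ toFour.symm) ((Pi.single 3 (1 : F) ∘ toFour) ∘ toFour.symm) = 1 := by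
      simp [Function.comp_assoc, altForm4]
    rw [e, mul_one] at h'
    rw [sq, h']
  have hc1 : (c : F) = 1 := by
    have : ((c : F) + 1) ^ 2 = 0 := by rw [CharTwo.add_sq, hc2, one_pow, CharTwo.add_self_eq_zero]
    exact CharTwo.add_eq_zero.1 (pow_eq_zero_iff two_ne_zero |>.1 this)
  exact Subtype.ext (Units.ext (by rw [hc, hc1, one_smul]; rfl))

/-- The residual class. -/
theorem residual_socle (h4 : 4 ≤ Fintype.card F) (H : Subgroup (GL (Fin 2 ⊕ Fin 2) F))
    (hH : IsMaximalIn (Cfsg.spGL 2 F) H) (hS : InSymplecticResidualClass H) :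
    ∃ (P : Subgroup (GL (Fin 2 ⊕ Fin 2) F)) (m : ℕ), IsResidualCore H P ∧ 1 ≤ m ∧
      Fintype.card F = 2 ^ (2 * m + 1) ∧
      Nonempty ((P ⧸ (scalars (Fin 2 ⊕ Fin 2) F).subgroupOf P) ≃* Cfsg.Lie.Sz F (2 ^ (m + 1))) := by
  classical
  obtain ⟨P, hP, hQ, -⟩ := hS
  have hsp : P ≤ Cfsg.spGL 2 F := hP.le.trans hH.1.le
  have hbot := scalars_bot hsp
  let q₀ : P ⧸ (scalars (Fin 2 ⊕ Fin 2) F).subgroupOf P ≃* P :=
    (QuotientGroup.quotientMulEquivOfEq hbot).trans QuotientGroup.quotientBot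
  let Φ : GL (Fin 2 ⊕ Fin 2) F ≃* GL (Fin 4) F := glReindex toFour
  let P4 : Subgroup (GL (Fin 4) F) := P.map Φ.toMonoidHom
  let eP : P ≃* P4 := P.equivMapOfInjective Φ.toMonoidHom Φ.injective
  have hmem : ∀ g : GL (Fin 2 ⊕ Fin 2) F, Φ g ∈ P4 ↔ g ∈ P := fun g =>
    ⟨fun ⟨x, hx, e⟩ => (Φ.injective e : x = g) ▸ hx, fun h => ⟨g, h, rfl⟩⟩
  have hcore : Core4 P4 := by
    refine ⟨?_, ?_, ?_, ⟨?_, ?_⟩, ?_, ?_, ?_⟩
    · rintro _ ⟨g, hg, rfl⟩
      exact mem_Sp4_toFour.2 (hsp hg)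
    · haveI := hP.simple
      haveI : Nontrivial P4 := (eP.symm.trans q₀.symm).toEquiv.nontrivial
      exact IsSimpleGroup.isSimpleGroup_of_surjective (q₀.trans eP).toMonoidHom (q₀.trans eP).surjective
    · exact fun hc => hP.nonabelian ⟨⟨fun a b => (q₀.trans eP).injective (by
        rw [map_mul, map_mul]; exact hc.is_comm.comm _ _)⟩⟩
    · intro W hW
      let L : (Fin 2 ⊕ Fin 2 → F) ≃ₗ[F] (Fin 4 → F) := LinearEquiv.funCongrLeft F F toFour.symm
      rcases hP.absIrred.1 (W.comap L.toLinearMap) (by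
        rintro _ ⟨g, hg, rfl⟩ _ ⟨v, hv, rfl⟩
        rw [Matrix.toLin'_apply]
        show ((g : Matrix _ _ F) *ᵥ v) ∘ toFour.symm ∈ W
        rw [← mulVec_toFour]
        refine hW _ ⟨Φ g, (hmem g).2 hg, rfl⟩ ⟨L v, hv, ?_⟩
        rw [Matrix.toLin'_apply]
        rfl) with h | h
      · exact Or.inl (by rw [← Submodule.map_comap_eq_of_surjective L.surjective W, h, Submodule.map_bot])
      · exact Or.inr (by rw [← Submodule.map_comap_eq_of_surjective L.surjective W, h, Submodule.map_top,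
          LinearMap.range_eq_top.2 L.surjective])
    · intro M hM
      obtain ⟨c, hc⟩ := hP.absIrred.2 (Matrix.reindex toFour.symm toFour.symm M) (by
        rintro _ ⟨g, hg, rfl⟩
        have h := congrArg (Matrix.reindexAlgEquiv F F toFour.symm) (hM _ ⟨Φ g, (hmem g).2 hg, rfl⟩)
        rw [map_mul, map_mul] at h
        have e : Matrix.reindexAlgEquiv F F toFour.symm ((Φ g : GL (Fin 4) F) : Matrix (Fin 4) (Fin 4) F) =
            (g : Matrix (Fin 2 ⊕ Fin 2) (Fin 2 ⊕ Fin 2) F) :=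
          (Matrix.reindexAlgEquiv F F toFour).symm_apply_apply _
        rw [e] at h
        exact h)
      refine ⟨c, ?_⟩
      have h := congrArg (Matrix.reindexAlgEquiv F F toFour) hc
      rw [map_smul, map_one] at h
      exact ((Matrix.reindexAlgEquiv F F toFour).apply_symm_apply M).symm.trans h
    · intro F₀ hF₀ ⟨B, hB⟩
      refine hP.no_subfield F₀ hF₀ ⟨Φ.symm B, ?_⟩
      rintro _ ⟨g, hg, rfl⟩ i j
      have h := hB _ ⟨Φ g, (hmem g).2 hg, rfl⟩ (toFour i) (toFour j)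
      have e : ((Φ.symm B * g * (Φ.symm B)⁻¹ : GL (Fin 2 ⊕ Fin 2) F) : Matrix (Fin 2 ⊕ Fin 2) (Fin 2 ⊕ Fin 2) F) i j =
          ((B * Φ g * B⁻¹ : GL (Fin 4) F) : Matrix (Fin 4) (Fin 4) F) (toFour i) (toFour j) := by
        have : B * Φ g * B⁻¹ = Φ (Φ.symm B * g * (Φ.symm B)⁻¹) := by
          rw [map_mul, map_mul, map_inv, Φ.apply_symm_apply]
        rw [this]
        show _ = Matrix.reindex toFour toFour _ _ _
        simp
      rw [Units.val_mul, Units.val_mul] at e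
      rw [e, Units.val_mul, Units.val_mul]
      exact h
    · rintro ⟨Q, ⟨hs, hb, hn⟩, hfix⟩
      refine hQ ⟨fun v => Q (v ∘ toFour.symm), ⟨fun c v => hs c _, ?_, ?_⟩, ?_⟩
      · refine ⟨fun u v w => ?_, fun c u v => ?_, fun u v w => ?_, fun c u v => ?_⟩
        · exact hb.add_left (u ∘ toFour.symm) (v ∘ toFour.symm) (w ∘ toFour.symm)
        · exact hb.smul_left c (u ∘ toFour.symm) (v ∘ toFour.symm)
        · exact hb.add_right (u ∘ toFour.symm) (v ∘ toFour.symm) (w ∘ toFour.symm)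
        · exact hb.smul_right c (u ∘ toFour.symm) (v ∘ toFour.symm)
      · intro v hv
        obtain ⟨⟨x, hx⟩, y, hy⟩ := hn (v ∘ toFour.symm) fun e => hv (funext fun i => by
          simpa using congrFun e (toFour i))
        refine ⟨⟨x ∘ toFour, ?_⟩, y ∘ toFour, ?_⟩
        · simpa [QuadraticMap.polar, Function.comp_assoc, Pi.add_comp] using hx
        · simpa [QuadraticMap.polar, Function.comp_assoc, Pi.add_comp] using hy
      · rintro _ ⟨g, hg, rfl⟩ v
        show Q (((g : Matrix (Fin 2 ⊕ Fin 2) (Fin 2 ⊕ Fin 2) F) *ᵥ v) ∘ toFour.symm) = _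
        rw [← mulVec_toFour]
        exact hfix _ ⟨Φ g, (hmem g).2 hg, rfl⟩ _
    · intro e
      refine not_le_of_gt hH.1 fun g hg => hP.le ((hmem g).1 ?_)
      rw [e]
      exact mem_Sp4_toFour.2 hg
  obtain ⟨m, hm, hcard, ⟨i⟩⟩ := hcore.iso_suzuki (by rw [Nat.card_eq_fintype_card]; exact h4) fun f hf => by
    refine ⟨((2 ^ f) ^ 2 - 1) * ((2 ^ f) ^ 4 - 1), ?_, ?_⟩
    · have hf0 : f ≠ 0 := by rintro rfl; rw [Nat.card_eq_fintype_card] at hf; omega
      refine Odd.mul ?_ ?_ <;> rw [← pow_mul] <;>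
        exact Nat.Even.sub_odd Nat.one_le_two_pow ((Nat.even_pow' (by simp [hf0])).2 even_two) odd_one
    · rw [← Nat.card_congr eP.toEquiv]
      refine (Subgroup.card_dvd_of_le hsp).trans (dvd_of_eq ?_)
      rw [card_spGL_four, hf, ← pow_mul 2 f 4, mul_comm f 4]
  rw [Nat.card_eq_fintype_card] at hcard
  exact ⟨P, m, hP, hm, hcard, ⟨(q₀.trans eP).trans i⟩⟩

end Cfsg.Lib.SpFourResidual
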