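import Cfsg.Prelude.Def_Sz
import Cfsg.Prelude.Def_GeometricClasses

/-!
The symplectic group in four dimensions over a field of characteristic two, in the coordinates of the Suzuki groups:
the form, hyperbolic bases and their quadratic forms.
-/

set_option autoImplicit false
set_option linter.unusedSectionVars false
set_option linter.style.haveILetI false

namespace Cfsg.Lib.SpFourResidual

open Matrix Cfsg.Lie
open scoped MatrixGroups

universe u

variable {F : Type u} [Field F]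

local notation "MM" => Matrix (Fin 4) (Fin 4) F
local notation "GG" => GL (Fin 4) F
local notation "VV" => (Fin 4 → F)

theorem alt_add_left (u v w : VV) : altForm4 (u + v) w = altForm4 u w + altForm4 v w := by
  simp only [altForm4, Pi.add_apply]; ring

theorem alt_add_right (u v w : VV) : altForm4 u (v + w) = altForm4 u v + altForm4 u w := by
  simp only [altForm4, Pi.add_apply]; ring

theorem alt_smul_left (c : F) (u v : VV) : altForm4 (c • u) v = c * altForm4 u v := by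
  simp only [altForm4, Pi.smul_apply, smul_eq_mul]; ring

theorem alt_smul_right (c : F) (u v : VV) : altForm4 u (c • v) = c * altForm4 u v := by
  simp only [altForm4, Pi.smul_apply, smul_eq_mul]; ring

theorem alt_comm (u v : VV) : altForm4 u v = altForm4 v u := by
  simp only [altForm4]; ring

theorem alt_self [CharP F 2] (u : VV) : altForm4 u u = 0 := by
  have h2 : (2 : F) = 0 := CharP.cast_eq_zero F 2
  simp only [altForm4]
  linear_combination (u 0 * u 3 + u 1 * u 2) * h2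

theorem alt_zero_left (v : VV) : altForm4 0 v = 0 := by simp [altForm4]

theorem alt_nondeg {u : VV} (hu : u ≠ 0) : ∃ v, altForm4 u v ≠ 0 := by
  obtain ⟨i, hi⟩ := Function.ne_iff.1 hu
  refine ⟨Pi.single (3 - i) 1, ?_⟩
  fin_cases i <;> simpa [altForm4] using hi

theorem mem_Sp4 {g : GG} :
    g ∈ Sp4 F ↔ ∀ u v : VV, altForm4 ((g : MM) *ᵥ u) ((g : MM) *ᵥ v) = altForm4 u v := Iff.rfl

/-- A hyperbolic basis: the pairs are the outer and the inner one. -/
structure Hyp (e0 e1 e2 e3 : Fin 4 → F) : Prop where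
  h03 : altForm4 e0 e3 = 1
  h12 : altForm4 e1 e2 = 1
  h01 : altForm4 e0 e1 = 0
  h02 : altForm4 e0 e2 = 0
  h31 : altForm4 e3 e1 = 0
  h32 : altForm4 e3 e2 = 0

variable [CharP F 2] {e0 e1 e2 e3 : Fin 4 → F}

theorem Hyp.swap (B : Hyp e0 e1 e2 e3) : Hyp e0 e2 e1 e3 :=
  ⟨B.h03, by rw [alt_comm]; exact B.h12, B.h02, B.h01, B.h32, B.h31⟩

theorem Hyp.coord (B : Hyp e0 e1 e2 e3) (a b c d : F) :
    altForm4 (a • e0 + b • e1 + c • e2 + d • e3) e3 = a ∧ altForm4 (a • e0 + b • e1 + c • e2 + d • e3) e2 = b ∧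
      altForm4 (a • e0 + b • e1 + c • e2 + d • e3) e1 = c ∧ altForm4 (a • e0 + b • e1 + c • e2 + d • e3) e0 = d := by
  obtain ⟨h03, h12, h01, h02, h31, h32⟩ := B
  refine ⟨?_, ?_, ?_, ?_⟩ <;>
    simp only [alt_add_left, alt_smul_left, alt_self, h03, h12, h01, h02, h31, h32, alt_comm e3 e0, alt_comm e2 e1,
      alt_comm e1 e0, alt_comm e2 e0, alt_comm e1 e3, alt_comm e2 e3] <;> ring

theorem Hyp.expand [Finite F] (B : Hyp e0 e1 e2 e3) (v : VV) :
    v = altForm4 v e3 • e0 + altForm4 v e2 • e1 + altForm4 v e1 • e2 + altForm4 v e0 • e3 := by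
  let Ψ : VV → VV := fun x => x 0 • e0 + x 1 • e1 + x 2 • e2 + x 3 • e3
  have hinj : Function.Injective Ψ := fun x y h => by
    obtain ⟨a1, a2, a3, a4⟩ := B.coord (x 0) (x 1) (x 2) (x 3)
    obtain ⟨b1, b2, b3, b4⟩ := B.coord (y 0) (y 1) (y 2) (y 3)
    funext i
    fin_cases i
    · exact a1.symm.trans ((congrArg (altForm4 · e3) h).trans b1)
    · exact a2.symm.trans ((congrArg (altForm4 · e2) h).trans b2)
    · exact a3.symm.trans ((congrArg (altForm4 · e1) h).trans b3)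
    · exact a4.symm.trans ((congrArg (altForm4 · e0) h).trans b4)
  obtain ⟨x, rfl⟩ := Finite.surjective_of_injective hinj v
  obtain ⟨a1, a2, a3, a4⟩ := B.coord (x 0) (x 1) (x 2) (x 3)
  simp only [Ψ, a1, a2, a3, a4]

theorem Hyp.pairing [Finite F] (B : Hyp e0 e1 e2 e3) (u v : VV) :
    altForm4 u v = altForm4 u e3 * altForm4 v e0 + altForm4 u e0 * altForm4 v e3 +
      altForm4 u e2 * altForm4 v e1 + altForm4 u e1 * altForm4 v e2 := by
  conv_lhs => rw [B.expand v]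
  simp only [alt_add_right, alt_smul_right]
  ring

/-- The quadratic form of a hyperbolic basis. -/
def hypQuad (e0 e1 e2 e3 : Fin 4 → F) (v : Fin 4 → F) : F :=
  altForm4 v e3 * altForm4 v e0 + altForm4 v e2 * altForm4 v e1

theorem hypQuad_smul (c : F) (v : VV) : hypQuad e0 e1 e2 e3 (c • v) = c ^ 2 * hypQuad e0 e1 e2 e3 v := by
  simp only [hypQuad, alt_smul_left]; ring

theorem Hyp.quad_add [Finite F] (B : Hyp e0 e1 e2 e3) (u v : VV) :
    hypQuad e0 e1 e2 e3 (u + v) = hypQuad e0 e1 e2 e3 u + hypQuad e0 e1 e2 e3 v + altForm4 u v := by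
  rw [B.pairing u v]
  simp only [hypQuad, alt_add_left]
  ring

/-- An isometry sending the basis to singular vectors preserves the form. -/
theorem Hyp.quad_fix [Finite F] (B : Hyp e0 e1 e2 e3) {g : MM} (hg : ∀ u v : VV, altForm4 (g *ᵥ u) (g *ᵥ v) = altForm4 u v)
    (q0 : hypQuad e0 e1 e2 e3 (g *ᵥ e0) = 0) (q1 : hypQuad e0 e1 e2 e3 (g *ᵥ e1) = 0)
    (q2 : hypQuad e0 e1 e2 e3 (g *ᵥ e2) = 0) (q3 : hypQuad e0 e1 e2 e3 (g *ᵥ e3) = 0) (v : VV) :
    hypQuad e0 e1 e2 e3 (g *ᵥ v) = hypQuad e0 e1 e2 e3 v := by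
  have p : ∀ {e : VV}, hypQuad e0 e1 e2 e3 (g *ᵥ e) = 0 → hypQuad e0 e1 e2 e3 e = 0 → ∀ c : F,
      hypQuad e0 e1 e2 e3 (g *ᵥ (c • e)) = hypQuad e0 e1 e2 e3 (c • e) := fun h h' c => by
    rw [mulVec_smul, hypQuad_smul, hypQuad_smul, h, h']
  have add : ∀ {x y : VV}, hypQuad e0 e1 e2 e3 (g *ᵥ x) = hypQuad e0 e1 e2 e3 x →
      hypQuad e0 e1 e2 e3 (g *ᵥ y) = hypQuad e0 e1 e2 e3 y →
      hypQuad e0 e1 e2 e3 (g *ᵥ (x + y)) = hypQuad e0 e1 e2 e3 (x + y) := fun hx hy => by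
    rw [mulVec_add, B.quad_add, B.quad_add, hx, hy, hg]
  have z0 : hypQuad e0 e1 e2 e3 e0 = 0 := by simp [hypQuad, alt_self, B.h02, B.h01]
  have z1 : hypQuad e0 e1 e2 e3 e1 = 0 := by simp [hypQuad, alt_self, alt_comm e1 e0, B.h01]
  have z2 : hypQuad e0 e1 e2 e3 e2 = 0 := by simp [hypQuad, alt_self, alt_comm e2 e0, B.h02]
  have z3 : hypQuad e0 e1 e2 e3 e3 = 0 := by simp [hypQuad, alt_self, B.h32, B.h31]
  rw [B.expand v]
  exact add (add (add (p q0 z0 _) (p q1 z1 _)) (p q2 z2 _)) (p q3 z3 _)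

theorem Hyp.quad_nondegenerate [Finite F] (B : Hyp e0 e1 e2 e3) :
    Cfsg.Geo.IsNondegenerateQuadraticForm (hypQuad e0 e1 e2 e3) := by
  have hp : QuadraticMap.polar (hypQuad e0 e1 e2 e3) = altForm4 := by
    funext u v
    rw [QuadraticMap.polar, B.quad_add]
    ring
  refine ⟨fun c v => hypQuad_smul c v, ?_, ?_⟩
  · rw [hp]
    exact ⟨alt_add_left, alt_smul_left, alt_add_right, alt_smul_right⟩
  · rw [hp]
    intro v hv
    obtain ⟨x, hx⟩ := alt_nondeg hv
    exact ⟨⟨x, by rwa [alt_comm]⟩, x, hx⟩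

end Cfsg.Lib.SpFourResidual
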