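import Cfsg.Agent.SpFourResidual.Basic
import Cfsg.Agent.RootSub.SL2

/-!
An irreducible representation of `SL₂(2ⁿ)` over its own field in the four dimensional symplectic group fixes a
quadratic form polarising the symplectic form.
-/

set_option autoImplicit false
set_option linter.unusedSectionVars false
set_option linter.style.haveILetI false
set_option maxHeartbeats 400000

namespace Cfsg.Lib.SpFourResidual

open Matrix Cfsg.Lie Cfsg.Lib.RootSub
open scoped MatrixGroups

universe u

variable {K : Type u} [Field K]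

local notation "MM" => Matrix (Fin 4) (Fin 4) K
local notation "GG" => GL (Fin 4) K
local notation "VV" => (Fin 4 → K)

/-- The torus. -/
def torEl (a : Kˣ) : SL(2, K) := ⟨!![(a : K), 0; 0, ((a⁻¹ : Kˣ) : K)], by simp [Matrix.det_fin_two]⟩

theorem torEl_coe (a : Kˣ) : (torEl a).1 = !![(a : K), 0; 0, ((a⁻¹ : Kˣ) : K)] := rfl

variable [CharP K 2]

/-- The Weyl involution. -/
def weylEl : SL(2, K) := ⟨!![0, 1; 1, 0], by simp [Matrix.det_fin_two, CharTwo.neg_eq]⟩

theorem weylEl_coe : (weylEl (K := K)).1 = !![0, 1; 1, 0] := rfl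

theorem weyl_sq : weylEl * weylEl = (1 : SL(2, K)) := by
  ext i j; fin_cases i <;> fin_cases j <;>
    simp [weylEl_coe, Matrix.SpecialLinearGroup.coe_mul, Matrix.mul_apply, Fin.sum_univ_two]

theorem upEl_sq (z : K) : upEl z * upEl z = 1 := by rw [upEl_mul, CharTwo.add_self_eq_zero, upEl_zero]

theorem torEl_mul (a b : Kˣ) : torEl a * torEl b = torEl (a * b) := by
  ext i j; fin_cases i <;> fin_cases j <;>
    simp [torEl_coe, Matrix.SpecialLinearGroup.coe_mul, Matrix.mul_apply, Fin.sum_univ_two, mul_comm]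

theorem torEl_one : torEl (1 : Kˣ) = 1 := by
  ext i j; fin_cases i <;> fin_cases j <;> simp [torEl_coe]

theorem tor_weyl (a : Kˣ) : torEl a * weylEl = weylEl * torEl a⁻¹ := by
  ext i j; fin_cases i <;> fin_cases j <;>
    simp [torEl_coe, weylEl_coe, Matrix.SpecialLinearGroup.coe_mul, Matrix.mul_apply, Fin.sum_univ_two]

theorem tor_up (a : Kˣ) (z : K) : torEl a * upEl z = upEl ((a : K) ^ 2 * z) * torEl a := by
  ext i j; fin_cases i <;> fin_cases j <;>
    simp [torEl_coe, upEl_coe, Matrix.SpecialLinearGroup.coe_mul, Matrix.mul_apply, Fin.sum_univ_two]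
  field_simp

theorem steinberg (a : Kˣ) :
    upEl (a : K) * weylEl * upEl ((a⁻¹ : Kˣ) : K) * weylEl * upEl (a : K) = torEl a * weylEl := by
  ext i j; fin_cases i <;> fin_cases j <;>
    simp [upEl_coe, torEl_coe, weylEl_coe, Matrix.SpecialLinearGroup.coe_mul, Matrix.mul_apply, Fin.sum_univ_two,
      CharTwo.add_self_eq_zero]

theorem weyl_up_weyl (z : K) : weylEl * upEl z * weylEl = loEl z := by
  ext i j; fin_cases i <;> fin_cases j <;>
    simp [upEl_coe, loEl_coe, weylEl_coe, Matrix.SpecialLinearGroup.coe_mul, Matrix.mul_apply, Fin.sum_univ_two]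

/-- Induction from the generators. -/
theorem all_of_gens {p : SL(2, K) → Prop} (h1 : p 1) (hmul : ∀ g h, p g → p h → p (g * h))
    (hup : ∀ z, p (upEl z)) (hw : p weylEl) (g : SL(2, K)) : p g := by
  have hlo : ∀ z, p (loEl z) := fun z => by
    rw [← weyl_up_weyl]; exact hmul _ _ (hmul _ _ hw (hup z)) hw
  have hg : g ∈ Subgroup.closure
      ((Cfsg.lowerUnipotentSL2 K : Set SL(2, K)) ∪ (Cfsg.upperUnipotentSL2 K : Set SL(2, K))) := by
    rw [Subgroup.closure_union, Subgroup.closure_eq, Subgroup.closure_eq, lower_sup_upper]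
    exact Subgroup.mem_top g
  induction hg using Subgroup.closure_induction'' with
  | mem x hx =>
    rcases hx with hx | hx
    · obtain ⟨s, rfl⟩ := mem_lower_iff.1 hx; exact hlo s
    · obtain ⟨s, rfl⟩ := mem_upper_iff.1 hx; exact hup s
  | inv_mem x hx =>
    rcases hx with hx | hx
    · obtain ⟨s, rfl⟩ := mem_lower_iff.1 hx; rw [loEl_inv]; exact hlo _
    · obtain ⟨s, rfl⟩ := mem_upper_iff.1 hx; rw [upEl_inv]; exact hup _
  | one => exact h1
  | mul x y _ _ hx hy => exact hmul x y hx hy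

variable [Fintype K]

theorem exists_sqrt_unit (z : Kˣ) : ∃ s : Kˣ, (s : K) ^ 2 = z := by
  obtain ⟨s, hs⟩ := Finite.surjective_of_injective (frobenius_inj K 2) (z : K)
  rw [frobenius_def] at hs
  exact ⟨Units.mk0 s fun e => z.ne_zero (by rw [← hs, e, zero_pow two_ne_zero]), hs⟩

/-- A nonzero simultaneous eigenvector of the units outside a given subspace. -/
theorem exists_eigen {V : Type*} [AddCommGroup V] [Module K V] (T : Kˣ → V →ₗ[K] V)
    (hT : ∀ a b v, T (a * b) v = T a (T b v)) (h1 : ∀ v, T 1 v = v) {S Z : Submodule K V}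
    (hS : ∀ a, ∀ v ∈ S, T a v ∈ S) {v : V} (hv : v ∈ S) (hvZ : v ∉ Z) :
    ∃ (j : ℕ) (s : V), s ∈ S ∧ s ∉ Z ∧ ∀ a : Kˣ, T a s = ((a : K) ^ j) • s := by
  classical
  set N := Fintype.card Kˣ with hN
  let s : ℕ → V := fun j => ∑ a : Kˣ, (((a⁻¹ : Kˣ) : K) ^ j) • T a v
  have heig : ∀ j (b : Kˣ), T b (s j) = ((b : K) ^ j) • s j := fun j b => by
    simp only [s, map_sum, map_smul, Finset.smul_sum, smul_smul, ← hT]
    refine Fintype.sum_equiv (Equiv.mulLeft b) _ _ fun a => ?_
    rw [Equiv.coe_mulLeft, _root_.mul_inv_rev, Units.val_mul, mul_pow, mul_left_comm, ← mul_pow, ← Units.val_mul,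
      mul_inv_cancel, Units.val_one, one_pow, mul_one]
  have hN1 : (N : K) = 1 := by
    have h0 : ((Fintype.card K : ℕ) : K) = 0 := Nat.cast_card_eq_zero K
    rw [hN, Fintype.card_units, Nat.cast_sub Fintype.card_pos, h0, zero_sub, Nat.cast_one, CharTwo.neg_eq]
  have hsum : ∑ j ∈ Finset.range N, s j = v := by
    simp only [s]
    rw [Finset.sum_comm]
    simp_rw [← Finset.sum_smul]
    rw [Finset.sum_eq_single 1]
    · simp [h1, hN1]
    · intro a _ ha
      rw [geom_sum_eq, ← Units.val_pow_eq_pow_val, hN, pow_card_eq_one, Units.val_one, sub_self, zero_div, zero_smul]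
      intro e
      exact ha (inv_eq_one.1 (Units.ext e))
    · simp
  obtain ⟨j, -, hj⟩ : ∃ j ∈ Finset.range N, s j ∉ Z := by
    by_contra hc
    push Not at hc
    exact hvZ (hsum ▸ Z.sum_mem hc)
  exact ⟨j, s j, S.sum_mem fun a _ => S.smul_mem _ (hS a v hv), hj, heig j⟩

theorem exists_ne_zero_kill {n : ℕ} (hn : n < 4) (l : VV → Fin n → K) (hl : ∀ x y, l (x + y) = l x + l y) :
    ∃ v : VV, v ≠ 0 ∧ l v = 0 := by
  have hninj : ¬ Function.Injective l := fun h => by
    have := Fintype.card_le_of_injective l h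
    rw [Fintype.card_fun, Fintype.card_fun, Fintype.card_fin, Fintype.card_fin,
      Nat.pow_le_pow_iff_right Fintype.one_lt_card] at this
    omega
  simp only [Function.Injective] at hninj
  push Not at hninj
  obtain ⟨x, y, hxy, hne⟩ := hninj
  have hd : x + y + y = x := by rw [add_assoc, show y + y = (0 : VV) from funext fun _ => CharTwo.add_self_eq_zero _, add_zero]
  refine ⟨x + y, fun e => hne (by rw [← hd, e, zero_add]), ?_⟩
  rw [hl, hxy]
  exact funext fun _ => CharTwo.add_self_eq_zero _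

variable (ρ : SL(2, K) →* GL (Fin 4) K)

/-- The action. -/
def act (g : SL(2, K)) (v : Fin 4 → K) : Fin 4 → K := (ρ g : MM) *ᵥ v

theorem act_mul (g h : SL(2, K)) (v : VV) : act ρ (g * h) v = act ρ g (act ρ h v) := by
  simp [act, mulVec_mulVec]

theorem act_one (v : VV) : act ρ 1 v = v := by simp [act]

theorem act_add (g : SL(2, K)) (u v : VV) : act ρ g (u + v) = act ρ g u + act ρ g v := mulVec_add _ _ _

theorem act_smul (g : SL(2, K)) (c : K) (v : VV) : act ρ g (c • v) = c • act ρ g v := mulVec_smul _ _ _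

/-- An invariant subspace is trivial. -/
def Irr4 : Prop :=
  ∀ S : Submodule K (Fin 4 → K), (∀ g, ∀ v ∈ S, act ρ g v ∈ S) → S = ⊥ ∨ S = ⊤

/-- Bases adapted to the torus and to a fixed vector of the upper unipotent group. -/
structure Frame (e0 e1 e2 e3 : Fin 4 → K) (χ ψ : Kˣ → K) : Prop where
  hyp : Hyp e0 e1 e2 e3
  χ0 : ∀ a, χ a ≠ 0
  ψ0 : ∀ a, ψ a ≠ 0
  χmul : ∀ a b, χ (a * b) = χ a * χ b
  ψmul : ∀ a b, ψ (a * b) = ψ a * ψ b
  t0 : ∀ a, act ρ (torEl a) e0 = χ a • e0
  t1 : ∀ a, act ρ (torEl a) e1 = ψ a • e1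
  t2 : ∀ a, act ρ (torEl a) e2 = (ψ a)⁻¹ • e2
  t3 : ∀ a, act ρ (torEl a) e3 = (χ a)⁻¹ • e3
  w0 : act ρ weylEl e0 = e3
  u0 : ∀ z, act ρ (upEl z) e0 = e0

variable {ρ} (hρ : ∀ g, ρ g ∈ Sp4 K) (hirr : Irr4 ρ) (h4 : 4 ≤ Fintype.card K)

include hρ in
theorem act_iso (g : SL(2, K)) (u v : VV) : altForm4 (act ρ g u) (act ρ g v) = altForm4 u v := hρ g u v

theorem invariant_of_gens (S : Submodule K VV) (hup : ∀ z, ∀ v ∈ S, act ρ (upEl z) v ∈ S)
    (hw : ∀ v ∈ S, act ρ weylEl v ∈ S) (g : SL(2, K)) : ∀ v ∈ S, act ρ g v ∈ S :=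
  all_of_gens (p := fun g => ∀ v ∈ S, act ρ g v ∈ S) (fun v hv => by rwa [act_one])
    (fun g h hg hh v hv => by rw [act_mul]; exact hg _ (hh v hv)) hup hw g

include hρ hirr in
theorem exists_frame : ∃ e0 e1 e2 e3 χ ψ, Frame ρ e0 e1 e2 e3 χ ψ := by
  classical
  -- a fixed vector of the upper unipotent group
  have hfix : ∀ s : Finset K, ∃ v : VV, v ≠ 0 ∧ ∀ z ∈ s, act ρ (upEl z) v = v := by
    intro s
    induction s using Finset.induction_on with
    | empty => exact ⟨Pi.single 0 1, by simp [Pi.single_eq_zero_iff], by simp⟩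
    | @insert z s _ ih =>
      obtain ⟨v, hv, hfix⟩ := ih
      by_cases h : act ρ (upEl z) v = v
      · exact ⟨v, hv, by simpa [h] using hfix⟩
      · refine ⟨act ρ (upEl z) v + v, fun e => h ?_, fun y hy => ?_⟩
        · rw [← sub_eq_zero]
          exact (funext fun i => CharTwo.sub_eq_add _ _).trans e
        · rcases Finset.mem_insert.1 hy with rfl | hy
          · rw [act_add, ← act_mul, upEl_sq, act_one, add_comm]
          · rw [act_add, hfix y hy, ← act_mul, upEl_mul, add_comm y z, ← upEl_mul, act_mul, hfix y hy]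
  let T : Kˣ → VV →ₗ[K] VV := fun a => Matrix.mulVecLin (ρ (torEl a) : MM)
  have hTa : ∀ a v, T a v = act ρ (torEl a) v := fun a v => rfl
  have hT : ∀ a b v, T (a * b) v = T a (T b v) := fun a b v => by simp only [hTa, ← act_mul, torEl_mul]
  have hT1 : ∀ v, T 1 v = v := fun v => by rw [hTa, torEl_one, act_one]
  let S0 : Submodule K VV :=
    { carrier := {v | ∀ z, act ρ (upEl z) v = v}
      zero_mem' := fun z => mulVec_zero _
      add_mem' := fun {a b} ha hb z => by rw [act_add, ha z, hb z]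
      smul_mem' := fun c a ha z => by rw [act_smul, ha z] }
  obtain ⟨v, hv, hvfix⟩ := hfix Finset.univ
  obtain ⟨j, e0, he0, he0n, ht0⟩ := exists_eigen T hT hT1 (S := S0) (Z := ⊥)
    (fun a x hx z => by
      rw [hTa]
      have e : upEl z * torEl a = torEl a * upEl ((((a⁻¹ : Kˣ) : K)) ^ 2 * z) := by
        rw [tor_up, ← mul_assoc, ← mul_pow, ← Units.val_mul, mul_inv_cancel, Units.val_one, one_pow, one_mul]
      rw [← act_mul, e, act_mul, hx])
    (v := v) (fun z => hvfix z (Finset.mem_univ z)) (by simpa using hv)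
  rw [Submodule.mem_bot] at he0n
  set y := act ρ weylEl e0 with hy
  -- the fixed vector and its image are not orthogonal
  have hne : altForm4 e0 y ≠ 0 := by
    intro h0
    let X : Set VV := insert e0 {x | ∃ z, x = act ρ (upEl z) y}
    have hperp : ∀ x ∈ Submodule.span K X, altForm4 e0 x = 0 := fun x hx => by
      induction hx using Submodule.span_induction with
      | mem x hx =>
        rcases hx with rfl | ⟨z, rfl⟩
        · exact alt_self _
        · conv_lhs => rw [← he0 z]
          rw [act_iso hρ, h0]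
      | zero => rw [alt_comm]; exact alt_zero_left _
      | add x x' _ _ hx hx' => rw [alt_add_right, hx, hx', add_zero]
      | smul c x _ hx => rw [alt_smul_right, hx, mul_zero]
    have hX : ∀ g, ∀ x ∈ Submodule.span K X, act ρ g x ∈ Submodule.span K X := by
      refine invariant_of_gens _ (fun z x hx => ?_) (fun x hx => ?_) <;>
        induction hx using Submodule.span_induction with
        | mem x hx => ?_
        | zero => rw [act, mulVec_zero]; exact zero_mem _
        | add x x' _ _ hx hx' => rw [act_add]; exact add_mem hx hx'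
        | smul c x _ hx => rw [act_smul]; exact Submodule.smul_mem _ c hx
      · rcases hx with rfl | ⟨z', rfl⟩
        · rw [he0 z]; exact Submodule.subset_span (Set.mem_insert _ _)
        · rw [← act_mul, upEl_mul]; exact Submodule.subset_span (Or.inr ⟨_, rfl⟩)
      · rcases hx with rfl | ⟨z, rfl⟩
        · exact Submodule.subset_span (Or.inr ⟨0, by rw [upEl_zero, act_one]⟩)
        · rcases eq_or_ne z 0 with rfl | hz
          · rw [upEl_zero, act_one, hy, ← act_mul, weyl_sq, act_one]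
            exact Submodule.subset_span (Set.mem_insert _ _)
          · set a : Kˣ := (Units.mk0 z hz)⁻¹ with ha
            have hst := steinberg a
            rw [ha, inv_inv, Units.val_mk0, ← ha] at hst
            have e : weylEl * upEl z * weylEl = upEl (a : K) * (weylEl * torEl a⁻¹) * upEl (a : K) := by
              rw [← tor_weyl, ← hst]
              simp only [← mul_assoc, upEl_sq, one_mul]
              simp only [mul_assoc, upEl_sq, mul_one]
            rw [hy, ← act_mul, ← act_mul, e, act_mul, he0, act_mul, act_mul, ← hTa, ht0, act_smul,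
              act_smul]
            exact Submodule.smul_mem _ _ (Submodule.subset_span (Or.inr ⟨_, rfl⟩))
    rcases hirr _ hX with e | e
    · exact he0n ((Submodule.mem_bot K).1 (e ▸ Submodule.subset_span (Set.mem_insert e0 _)))
    · obtain ⟨x, hx⟩ := alt_nondeg he0n
      exact hx (hperp x (e ▸ Submodule.mem_top))
  set c := altForm4 e0 y with hc
  obtain ⟨d, hd⟩ := Finite.surjective_of_injective (frobenius_inj K 2) c⁻¹
  rw [frobenius_def] at hd
  have hd0 : d ≠ 0 := fun e => inv_ne_zero hne (by rw [← hd, e, zero_pow two_ne_zero])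
  set E0 := d • e0 with hE0
  set E3 := d • y with hE3
  have h03 : altForm4 E0 E3 = 1 := by
    rw [hE0, hE3, alt_smul_left, alt_smul_right, ← mul_assoc, ← sq, hd, inv_mul_cancel₀ hne]
  have hE0t : ∀ a, act ρ (torEl a) E0 = ((a : K) ^ j) • E0 := fun a => by
    rw [hE0, act_smul, ← hTa, ht0, smul_comm]
  have hE3t : ∀ a, act ρ (torEl a) E3 = (((a : K) ^ j)⁻¹) • E3 := fun a => by
    rw [hE3, act_smul, hy, ← act_mul, tor_weyl, act_mul, ← hTa, ht0, act_smul, smul_comm, Units.val_inv_eq_inv_val,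
      inv_pow]
  let W : Submodule K VV :=
    { carrier := {x | altForm4 x E0 = 0 ∧ altForm4 x E3 = 0}
      zero_mem' := ⟨alt_zero_left _, alt_zero_left _⟩
      add_mem' := fun {a b} ha hb => ⟨by rw [alt_add_left, ha.1, hb.1, add_zero],
        by rw [alt_add_left, ha.2, hb.2, add_zero]⟩
      smul_mem' := fun c a ha => ⟨by rw [alt_smul_left, ha.1, mul_zero], by rw [alt_smul_left, ha.2, mul_zero]⟩ }
  have hW : ∀ a, ∀ x ∈ W, T a x ∈ W := fun a x hx => by
    have ha : (a : K) ^ j ≠ 0 := pow_ne_zero _ a.ne_zero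
    refine ⟨?_, ?_⟩
    · have h := act_iso hρ (torEl a) x E0
      rw [hE0t, alt_smul_right, hx.1] at h
      exact (mul_eq_zero.1 h).resolve_left ha
    · have h := act_iso hρ (torEl a) x E3
      rw [hE3t, alt_smul_right, hx.2] at h
      exact (mul_eq_zero.1 h).resolve_left (inv_ne_zero ha)
  obtain ⟨v1, hv1, hl1⟩ := exists_ne_zero_kill (n := 2) (by norm_num) (fun x => ![altForm4 x E0, altForm4 x E3])
    fun x x' => funext fun i => by fin_cases i <;> simp [alt_add_left]
  obtain ⟨k, e1, he1W, he1, ht1⟩ := exists_eigen T hT hT1 hW (Z := ⊥) (v := v1)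
    ⟨by simpa using congrFun hl1 0, by simpa using congrFun hl1 1⟩ (by simpa using hv1)
  rw [Submodule.mem_bot] at he1
  obtain ⟨i, hi⟩ := Function.ne_iff.1 he1
  obtain ⟨v2, hv2, hl2⟩ := exists_ne_zero_kill (n := 3) (by norm_num)
    (fun x => ![altForm4 x E0, altForm4 x E3, x i])
    fun x x' => funext fun i => by fin_cases i <;> simp [alt_add_left]
  obtain ⟨k', e2', he2W, he2, ht2⟩ := exists_eigen T hT hT1 hW (Z := Submodule.span K {e1}) (v := v2)
    ⟨by simpa using congrFun hl2 0, by simpa using congrFun hl2 1⟩ (fun h => by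
      obtain ⟨a, rfl⟩ := Submodule.mem_span_singleton.1 h
      have : a * e1 i = 0 := by simpa using congrFun hl2 2
      exact hv2 (by rw [(mul_eq_zero.1 this).resolve_right hi, zero_smul]))
  have h12 : altForm4 e1 e2' ≠ 0 := by
    intro h0
    let Ψ : VV → VV := fun x => x 0 • E0 + x 1 • e1 + x 2 • e2' + x 3 • E3
    have hinj : Function.Injective Ψ := by
      intro x x' h
      have h' : ∀ x : VV, altForm4 (Ψ x) E3 = x 0 ∧ altForm4 (Ψ x) E0 = x 3 := fun x => by
        simp only [Ψ, alt_add_left, alt_smul_left, alt_self, h03, he1W.1, he1W.2, he2W.1, he2W.2, alt_comm E3 E0]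
        constructor <;> ring
      have e0' : x 0 = x' 0 := by rw [← (h' x).1, ← (h' x').1, h]
      have e3' : x 3 = x' 3 := by rw [← (h' x).2, ← (h' x').2, h]
      have h12 : (x 1 - x' 1) • e1 + (x 2 - x' 2) • e2' = 0 := by
        have := sub_eq_zero.2 h
        simp only [Ψ, e0', e3'] at this
        rw [← this]
        module
      have e2' : x 2 = x' 2 := by
        by_contra hne
        refine he2 (Submodule.mem_span_singleton.2 ⟨-((x 2 - x' 2)⁻¹ * (x 1 - x' 1)), ?_⟩)
        rw [neg_smul, mul_smul, eq_neg_of_add_eq_zero_left h12, smul_neg, neg_neg,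
          inv_smul_smul₀ (sub_ne_zero.2 hne)]
      have e1' : x 1 = x' 1 := by
        rw [e2', sub_self, zero_smul, add_zero] at h12
        exact sub_eq_zero.1 ((smul_eq_zero.1 h12).resolve_right he1)
      funext l
      fin_cases l <;> assumption
    obtain ⟨z, hz⟩ := alt_nondeg he1
    obtain ⟨x, rfl⟩ := Finite.surjective_of_injective hinj z
    simp only [Ψ, alt_add_right, alt_smul_right, alt_self, he1W.1, he1W.2, h0] at hz
    simp at hz
  set e2 := (altForm4 e1 e2')⁻¹ • e2' with he2d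
  have h12' : altForm4 e1 e2 = 1 := by rw [he2d, alt_smul_right, inv_mul_cancel₀ h12]
  have hkk : ∀ a : Kˣ, (a : K) ^ k' = ((a : K) ^ k)⁻¹ := fun a => by
    have h := act_iso hρ (torEl a) e1 e2'
    rw [← hTa, ← hTa, ht1, ht2, alt_smul_left, alt_smul_right, ← mul_assoc] at h
    exact eq_inv_of_mul_eq_one_right (mul_eq_right₀ h12 |>.1 h)
  refine ⟨E0, e1, e2, E3, fun a => (a : K) ^ j, fun a => (a : K) ^ k, ⟨h03, h12', ?_, ?_, ?_, ?_⟩,
    fun a => pow_ne_zero _ a.ne_zero, fun a => pow_ne_zero _ a.ne_zero, fun a b => by rw [Units.val_mul, mul_pow],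
    fun a b => by rw [Units.val_mul, mul_pow], hE0t, fun a => by rw [← hTa, ht1], fun a => by
      rw [he2d, act_smul, ← hTa, ht2, hkk, smul_comm], hE3t, by rw [hE0, hE3, act_smul],
    fun z => by rw [hE0, act_smul, he0 z]⟩
  · rw [alt_comm]; exact he1W.1
  · rw [he2d, alt_smul_right, alt_comm E0 e2', he2W.1, mul_zero]
  · rw [alt_comm]; exact he1W.2
  · rw [he2d, alt_smul_right, alt_comm E3 e2', he2W.2, mul_zero]

/-! The coordinates of the upper unipotent group. -/

section frame

variable {e0 e1 e2 e3 : Fin 4 → K} {χ ψ : Kˣ → K} (E : Frame ρ e0 e1 e2 e3 χ ψ)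

include E

theorem Frame.swap : Frame ρ e0 e2 e1 e3 χ (fun a => (ψ a)⁻¹) :=
  ⟨E.hyp.swap, E.χ0, fun a => inv_ne_zero (E.ψ0 a), E.χmul, fun a b => by rw [E.ψmul, mul_inv], E.t0, E.t2,
    fun a => by rw [E.t1, inv_inv], E.t3, E.w0, E.u0⟩

theorem Frame.χone : χ 1 = 1 := by
  have h := E.χmul 1 1
  rw [one_mul] at h
  exact (mul_eq_left₀ (E.χ0 1)).1 h.symm

theorem Frame.ψone : ψ 1 = 1 := by
  have h := E.ψmul 1 1
  rw [one_mul] at h
  exact (mul_eq_left₀ (E.ψ0 1)).1 h.symm

theorem Frame.χinv (a : Kˣ) : χ a⁻¹ = (χ a)⁻¹ := eq_inv_of_mul_eq_one_left (by rw [← E.χmul, inv_mul_cancel, E.χone])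

theorem Frame.ψinv (a : Kˣ) : ψ a⁻¹ = (ψ a)⁻¹ := eq_inv_of_mul_eq_one_left (by rw [← E.ψmul, inv_mul_cancel, E.ψone])

theorem Frame.w3 : act ρ weylEl e3 = e0 := by rw [← E.w0, ← act_mul, weyl_sq, act_one]

include hρ in
/-- The scaling of coordinates. -/
theorem Frame.weight (a : Kˣ) (z : K) {x y : VV} {cx cy : K} (hx : act ρ (torEl a⁻¹) x = cx • x)
    (hy : act ρ (torEl a⁻¹) y = cy • y) :
    altForm4 (act ρ (upEl ((a : K) ^ 2 * z)) x) y = cx * cy * altForm4 (act ρ (upEl z) x) y := by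
  have e : upEl ((a : K) ^ 2 * z) = torEl a * upEl z * torEl a⁻¹ := by
    rw [tor_up, mul_assoc, torEl_mul, mul_inv_cancel, torEl_one, mul_one]
  rw [e, act_mul, act_mul, hx, act_smul, act_smul, alt_smul_left]
  conv_lhs => rw [show y = act ρ (torEl a) (act ρ (torEl a⁻¹) y) by
    rw [← act_mul, torEl_mul, mul_inv_cancel, torEl_one, act_one]]
  rw [act_iso hρ, hy, alt_smul_right, mul_assoc]

theorem Frame.u_add (z z' : K) (x y : VV) :
    altForm4 (act ρ (upEl (z + z')) x) y =
      altForm4 (act ρ (upEl z) (act ρ (upEl z') x)) y := by rw [← upEl_mul z z', act_mul]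

where
  upEl_mul' (z z' : K) : upEl (z + z') = upEl z * upEl z' := (upEl_mul z z').symm

include hρ in
theorem Frame.flip (z : K) (x y : VV) : altForm4 (act ρ (upEl z) x) y = altForm4 x (act ρ (upEl z) y) := by
  conv_lhs => rw [← act_iso hρ (upEl z), ← act_mul, upEl_sq, act_one]

include hρ in
theorem Frame.comp (z z' : K) (x y : VV) :
    altForm4 (act ρ (upEl (z + z')) x) y =
      altForm4 (act ρ (upEl z') x) e3 * altForm4 (act ρ (upEl z) y) e0 +
      altForm4 (act ρ (upEl z') x) e0 * altForm4 (act ρ (upEl z) y) e3 +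
      altForm4 (act ρ (upEl z') x) e2 * altForm4 (act ρ (upEl z) y) e1 +
      altForm4 (act ρ (upEl z') x) e1 * altForm4 (act ρ (upEl z) y) e2 := by
  rw [E.u_add, E.flip hρ, E.hyp.pairing]

include hρ in
theorem Frame.perp0 (z : K) {x : VV} (h : altForm4 x e0 = 0) : altForm4 (act ρ (upEl z) x) e0 = 0 := by
  rw [E.flip hρ, E.u0, h]

include hρ in
theorem Frame.pair03 (z : K) : altForm4 (act ρ (upEl z) e3) e0 = 1 := by
  rw [E.flip hρ, E.u0, alt_comm, E.hyp.h03]

theorem Frame.inv0 (a : Kˣ) : act ρ (torEl a⁻¹) e3 = χ a • e3 := by rw [E.t3, E.χinv, inv_inv]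

theorem Frame.inv1 (a : Kˣ) : act ρ (torEl a⁻¹) e1 = (ψ a)⁻¹ • e1 := by rw [E.t1, E.ψinv]

theorem Frame.inv2 (a : Kˣ) : act ρ (torEl a⁻¹) e2 = ψ a • e2 := by rw [E.t2, E.ψinv, inv_inv]

include hρ in
/-- The relation of the Weyl involution. -/
theorem Frame.rel (a : Kˣ) (v : VV) :
    altForm4 (act ρ (upEl ((a⁻¹ : Kˣ) : K)) e3) (act ρ weylEl v) =
      (χ a)⁻¹ * altForm4 (act ρ (upEl (a : K)) e3) v := by
  have h := congrArg (fun g => act ρ g e0) (steinberg a)
  simp only [act_mul, E.u0, E.w0, E.t3] at h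
  have h' : act ρ weylEl (act ρ (upEl ((a⁻¹ : Kˣ) : K)) e3) = (χ a)⁻¹ • act ρ (upEl (a : K)) e3 := by
    rw [← act_smul, ← h, ← act_mul (g := upEl (a : K)) (h := upEl (a : K)), upEl_sq, act_one]
  rw [← alt_smul_left, ← h', ← act_iso hρ weylEl (act ρ (upEl ((a⁻¹ : Kˣ) : K)) e3) (act ρ weylEl v),
    ← act_mul (ρ := ρ) weylEl weylEl v, weyl_sq, act_one]

include hρ in
theorem Frame.beta (a : Kˣ) : altForm4 (act ρ (upEl (a : K)) e3) e3 = χ a := by
  have h := E.rel hρ a e3
  rw [E.w3, E.pair03 hρ] at h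
  exact (eq_of_inv_mul_eq_one (E.χ0 a) h.symm).symm
where
  eq_of_inv_mul_eq_one {x y : K} (hx : x ≠ 0) (h : x⁻¹ * y = 1) : x = y := by
    field_simp at h
    exact h.symm

include hρ in
theorem Frame.weyl1 {a : Kˣ} (ha : ψ a ≠ 1) :
    act ρ weylEl e1 = altForm4 (act ρ weylEl e1) e1 • e2 := by
  have hsq : ψ a * ψ a ≠ 1 := fun h => ha (by
    have : (ψ a + 1) ^ 2 = 0 := by rw [CharTwo.add_sq, sq, h, one_pow, CharTwo.add_self_eq_zero]
    exact CharTwo.add_eq_zero.1 (pow_eq_zero_iff two_ne_zero |>.1 this))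
  have h2 : altForm4 (act ρ weylEl e1) e2 = 0 := by
    have h := act_iso hρ (torEl a) (act ρ weylEl e1) e2
    rw [← act_mul, tor_weyl, act_mul, E.inv1, act_smul, E.t2, alt_smul_left, alt_smul_right, ← mul_assoc] at h
    by_contra hne
    refine hsq ?_
    have h1 := (mul_eq_right₀ hne).1 h
    rw [← mul_inv] at h1
    exact inv_eq_one.1 h1
  have h0 : altForm4 (act ρ weylEl e1) e0 = 0 := by
    rw [← E.w3, act_iso hρ, alt_comm, E.hyp.h31]
  have h3 : altForm4 (act ρ weylEl e1) e3 = 0 := by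
    rw [← E.w0, act_iso hρ, alt_comm, E.hyp.h01]
  conv_lhs => rw [E.hyp.expand (act ρ weylEl e1), h0, h2, h3]
  simp

include hρ hirr in
theorem Frame.no_plane (hb : ∀ z, altForm4 (act ρ (upEl z) e3) e1 = 0)
    (hc : ∀ z, altForm4 (act ρ (upEl z) e3) e2 = 0) : False := by
  let S : Submodule K VV := Submodule.span K {e0, e3}
  have h0 : e0 ∈ S := Submodule.subset_span (by simp)
  have h3 : e3 ∈ S := Submodule.subset_span (by simp)
  have hS : ∀ g, ∀ x ∈ S, act ρ g x ∈ S := by
    refine invariant_of_gens _ (fun z x hx => ?_) (fun x hx => ?_) <;>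
      obtain ⟨a, b, rfl⟩ := Submodule.mem_span_pair.1 hx <;> rw [act_add, act_smul, act_smul]
    · refine add_mem (S.smul_mem _ (by rw [E.u0]; exact h0)) (S.smul_mem _ ?_)
      rw [E.hyp.expand (act ρ (upEl z) e3), hb, hc]
      simp only [zero_smul, add_zero]
      exact add_mem (S.smul_mem _ h0) (S.smul_mem _ h3)
    · exact add_mem (S.smul_mem _ (by rw [E.w0]; exact h3)) (S.smul_mem _ (by rw [E.w3]; exact h0))
  rcases hirr S hS with e | e
  · have := (Submodule.mem_bot K).1 (e ▸ h0)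
    have h := E.hyp.h03
    rw [this, alt_zero_left] at h
    exact zero_ne_one h
  · have hall : ∀ x ∈ S, altForm4 x e1 = 0 := fun x hx => by
      obtain ⟨a, b, rfl⟩ := Submodule.mem_span_pair.1 hx
      rw [alt_add_left, alt_smul_left, alt_smul_left, E.hyp.h01, E.hyp.h31, mul_zero, mul_zero, add_zero]
    have h := hall e2 (e ▸ Submodule.mem_top)
    rw [alt_comm, E.hyp.h12] at h
    exact one_ne_zero h

include hρ hirr h4 in
/-- A frame in which the first middle vector moves only inside its perpendicular line. -/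
theorem Frame.quad_fixed (hr : altForm4 (act ρ (upEl 1) e1) e1 = 0) :
    ∀ g v, hypQuad e0 e1 e2 e3 (act ρ g v) = hypQuad e0 e1 e2 e3 v := by
  classical
  let p : K → K := fun z => altForm4 (act ρ (upEl z) e1) e2
  let r : K → K := fun z => altForm4 (act ρ (upEl z) e1) e1
  let q : K → K := fun z => altForm4 (act ρ (upEl z) e2) e2
  let c : K → K := fun z => altForm4 (act ρ (upEl z) e3) e2
  let b : K → K := fun z => altForm4 (act ρ (upEl z) e3) e1
  let β : K → K := fun z => altForm4 (act ρ (upEl z) e3) e3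
  have h10 : altForm4 e1 e0 = 0 := by rw [alt_comm]; exact E.hyp.h01
  have h20 : altForm4 e2 e0 = 0 := by rw [alt_comm]; exact E.hyp.h02
  have hp' : ∀ z, altForm4 (act ρ (upEl z) e2) e1 = p z := fun z => by
    rw [E.flip hρ, alt_comm]
  have hb' : ∀ z, altForm4 (act ρ (upEl z) e1) e3 = b z := fun z => by rw [E.flip hρ, alt_comm]
  have hc' : ∀ z, altForm4 (act ρ (upEl z) e2) e3 = c z := fun z => by rw [E.flip hρ, alt_comm]
  have unit : ∀ z : K, z ≠ 0 → ∃ a : Kˣ, z = (a : K) ^ 2 * 1 := fun z hz => by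
    obtain ⟨a, ha⟩ := exists_sqrt_unit (Units.mk0 z hz)
    exact ⟨a, by rw [ha, mul_one, Units.val_mk0]⟩
  have r0 : ∀ z, r z = 0 := fun z => by
    rcases eq_or_ne z 0 with rfl | hz
    · simp only [r, upEl_zero, act_one, alt_self]
    obtain ⟨a, rfl⟩ := unit z hz
    simp only [r, E.weight hρ a 1 (E.inv1 a) (E.inv1 a), hr, mul_zero]
  have hp : ∀ z, p z = 1 := fun z => by
    rcases eq_or_ne z 0 with rfl | hz
    · simp only [p, upEl_zero, act_one, E.hyp.h12]
    obtain ⟨a, rfl⟩ := unit z hz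
    simp only [p, E.weight hρ a 1 (E.inv1 a) (E.inv2 a), inv_mul_cancel₀ (E.ψ0 a), one_mul]
    have h := E.comp hρ 1 1 e1 e2
    rw [CharTwo.add_self_eq_zero, upEl_zero, act_one, E.hyp.h12, E.perp0 hρ 1 h20, E.perp0 hρ 1 h10, hp',
      hr] at h
    have : (p 1 + 1) ^ 2 = 0 := by
      rw [CharTwo.add_sq, one_pow, sq]
      simp only [mul_zero, zero_mul, zero_add, add_zero] at h
      rw [← h, CharTwo.add_self_eq_zero]
    exact CharTwo.add_eq_zero.1 (pow_eq_zero_iff two_ne_zero |>.1 this)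
  have qadd : ∀ z z', q (z + z') = q z' + q z := fun z z' => by
    have h := E.comp hρ z z' e2 e2
    simp only [E.perp0 hρ _ h20, hp'] at h
    simp only [q, h]
    rw [show p z = 1 from hp z, show p z' = 1 from hp z']
    ring
  have cadd : ∀ z z', c (z + z') = c z + c z' + b z' * q z := fun z z' => by
    have h := E.comp hρ z z' e3 e2
    simp only [E.perp0 hρ _ h20, E.pair03 hρ, hp', hc'] at h
    simp only [c, b, q, h]
    rw [show p z = 1 from hp z]
    ring
  have badd : ∀ z z', b (z + z') = b z + b z' := fun z z' => by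
    have h := E.comp hρ z z' e3 e1
    simp only [E.perp0 hρ _ h10, E.pair03 hρ, hb'] at h
    simp only [b, h]
    rw [show altForm4 (act ρ (upEl z) e1) e1 = 0 from r0 z, show altForm4 (act ρ (upEl z) e1) e2 = 1 from hp z]
    ring
  have βadd : ∀ z z', β (z + z') = β z' + β z + c z' * b z + b z' * c z := fun z z' => by
    have h := E.comp hρ z z' e3 e3
    simp only [E.pair03 hρ] at h
    simp only [β, c, b, h]
    ring
  have wb : ∀ a : Kˣ, b ((a : K) ^ 2 * 1) = χ a * (ψ a)⁻¹ * b 1 := fun a => E.weight hρ a 1 (E.inv0 a) (E.inv1 a)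
  have wc : ∀ a : Kˣ, c ((a : K) ^ 2 * 1) = χ a * ψ a * c 1 := fun a => E.weight hρ a 1 (E.inv0 a) (E.inv2 a)
  have wq : ∀ a : Kˣ, q ((a : K) ^ 2 * 1) = ψ a * ψ a * q 1 := fun a => E.weight hρ a 1 (E.inv2 a) (E.inv2 a)
  have b0 : b 0 = 0 := by simp only [b, upEl_zero, act_one]; exact E.hyp.h31
  have c0 : c 0 = 0 := by simp only [c, upEl_zero, act_one]; exact E.hyp.h32
  have q0 : q 0 = 0 := by simp only [q, upEl_zero, act_one, alt_self]
  obtain ⟨x, hx0, hx1⟩ : ∃ x : K, x ≠ 0 ∧ x ≠ 1 := by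
    by_contra hc
    push Not at hc
    have : Fintype.card K ≤ 2 := by
      rw [← Finset.card_univ]
      refine (Finset.card_le_card (t := {(0 : K), 1}) fun y _ => ?_).trans Finset.card_le_two
      rcases eq_or_ne y 0 with rfl | hy
      · simp
      · simp [hc y hy]
    omega
  by_cases htriv : ∀ a, ψ a = 1
  · exfalso
    have q1 : q 1 = 0 := by
      have h : q 1 = q (1 + x) + q x := by rw [qadd, add_right_comm, CharTwo.add_self_eq_zero, zero_add]
      obtain ⟨a, ha⟩ := unit (1 + x) (fun e => hx1 (CharTwo.add_eq_zero.1 e).symm)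
      obtain ⟨a', ha'⟩ := unit x hx0
      rw [ha, ha', wq, wq, htriv, htriv, one_mul, one_mul, CharTwo.add_self_eq_zero] at h
      exact h
    set α := c 1 • e1 + b 1 • e2 with hα
    let S : Submodule K VV := Submodule.span K {e0, e3, α}
    have h0 : e0 ∈ S := Submodule.subset_span (by simp)
    have h3 : e3 ∈ S := Submodule.subset_span (by simp)
    have hαS : α ∈ S := Submodule.subset_span (by simp)
    have hq : ∀ z, q z = 0 := fun z => by
      rcases eq_or_ne z 0 with rfl | hz
      · exact q0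
      obtain ⟨a, rfl⟩ := unit z hz
      rw [wq, q1, mul_zero]
    have hu1 : ∀ z, act ρ (upEl z) e1 = b z • e0 + e1 := fun z => by
      rw [E.hyp.expand (act ρ (upEl z) e1), hb', E.perp0 hρ z h10,
        show altForm4 (act ρ (upEl z) e1) e1 = 0 from r0 z, show altForm4 (act ρ (upEl z) e1) e2 = 1 from hp z]
      simp
    have hu2 : ∀ z, act ρ (upEl z) e2 = c z • e0 + e2 := fun z => by
      rw [E.hyp.expand (act ρ (upEl z) e2), hc', E.perp0 hρ z h20, hp',
        show altForm4 (act ρ (upEl z) e2) e2 = 0 from hq z, hp z]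
      simp
    have hu3 : ∀ z, ∃ m n : K, act ρ (upEl z) e3 = m • e0 + n • α + e3 := fun z => by
      rcases eq_or_ne z 0 with rfl | hz
      · exact ⟨0, 0, by rw [upEl_zero, act_one, zero_smul, zero_smul, add_zero, zero_add]⟩
      obtain ⟨a, rfl⟩ := unit z hz
      refine ⟨β ((a : K) ^ 2 * 1), χ a, ?_⟩
      rw [E.hyp.expand (act ρ (upEl ((a : K) ^ 2 * 1)) e3), E.pair03 hρ, one_smul]
      show β _ • e0 + c _ • e1 + b _ • e2 + e3 = _
      rw [wb, wc, htriv, inv_one, hα, smul_add, smul_smul, smul_smul]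
      simp only [mul_one]
      abel
    have hw : act ρ weylEl α = α := by
      have h := congrArg (fun g => act ρ g e0) (steinberg (1 : Kˣ))
      simp only [act_mul, E.u0, E.w0, E.t3, E.χone, inv_one, one_smul, Units.val_one] at h
      have h1 : act ρ (upEl 1) e3 = e0 + α + e3 := by
        rw [E.hyp.expand (act ρ (upEl 1) e3), E.pair03 hρ, one_smul,
          show altForm4 (act ρ (upEl 1) e3) e3 = 1 by
            have := E.beta hρ 1
            rwa [Units.val_one, E.χone] at this, one_smul, hα]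
        show e0 + c 1 • e1 + b 1 • e2 + e3 = _
        abel
      have h2 := congrArg (act ρ (upEl 1)) h
      rw [← act_mul, upEl_sq, act_one, h1, act_add, act_add, E.w0, E.w3] at h2
      calc act ρ weylEl α = (e3 + act ρ weylEl α + e0) + (e3 + e0) := by
            rw [show e3 + act ρ weylEl α + e0 + (e3 + e0) = act ρ weylEl α + ((e3 + e3) + (e0 + e0)) by abel,
              show e3 + e3 = (0 : VV) from funext fun _ => CharTwo.add_self_eq_zero _,
              show e0 + e0 = (0 : VV) from funext fun _ => CharTwo.add_self_eq_zero _, add_zero, add_zero]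
        _ = α := by
            rw [h2, show e0 + α + e3 + (e3 + e0) = α + ((e3 + e3) + (e0 + e0)) by abel,
              show e3 + e3 = (0 : VV) from funext fun _ => CharTwo.add_self_eq_zero _,
              show e0 + e0 = (0 : VV) from funext fun _ => CharTwo.add_self_eq_zero _, add_zero, add_zero]
    have hS : ∀ g, ∀ v ∈ S, act ρ g v ∈ S := by
      refine invariant_of_gens _ (fun z v hv => ?_) (fun v hv => ?_) <;>
        induction hv using Submodule.span_induction with
        | mem v hv => ?_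
        | zero => rw [act, mulVec_zero]; exact zero_mem _
        | add x x' _ _ hx hx' => rw [act_add]; exact add_mem hx hx'
        | smul c x _ hx => rw [act_smul]; exact Submodule.smul_mem _ c hx
      · rcases hv with rfl | rfl | rfl
        · rw [E.u0]; exact h0
        · obtain ⟨m, n, e⟩ := hu3 z
          rw [e]
          exact add_mem (add_mem (S.smul_mem _ h0) (S.smul_mem _ hαS)) h3
        · rw [hα, act_add, act_smul, act_smul, hu1, hu2,
            show c 1 • (b z • e0 + e1) + b 1 • (c z • e0 + e2) = (c 1 * b z + b 1 * c z) • e0 + α by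
              rw [hα]; module]
          exact add_mem (S.smul_mem _ h0) hαS
      · rcases hv with rfl | rfl | rfl
        · rw [E.w0]; exact h3
        · rw [E.w3]; exact h0
        · rw [hw]; exact hαS
    rcases hirr S hS with e | e
    · have := (Submodule.mem_bot K).1 (e ▸ h0)
      have h := E.hyp.h03
      rw [this, alt_zero_left] at h
      exact zero_ne_one h
    · -- a functional vanishing on the three vectors
      obtain ⟨y, hy, hl⟩ := exists_ne_zero_kill (n := 3) (by norm_num)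
        (fun v => ![altForm4 v e0, altForm4 v e3, altForm4 v α])
        fun v v' => funext fun i => by fin_cases i <;> simp [alt_add_left]
      obtain ⟨v, hv⟩ := alt_nondeg hy
      refine hv ?_
      clear hv
      have hv' : v ∈ S := e ▸ Submodule.mem_top
      induction hv' using Submodule.span_induction with
      | mem v hv =>
        rcases hv with rfl | rfl | rfl
        · simpa using congrFun hl 0
        · simpa using congrFun hl 1
        · simpa using congrFun hl 2
      | zero => rw [alt_comm, alt_zero_left]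
      | add v v' _ _ h h' => rw [alt_add_right, h, h', add_zero]
      | smul k v _ h => rw [alt_smul_right, h, mul_zero]
  push Not at htriv
  obtain ⟨a0, ha0⟩ := htriv
  set θ := altForm4 (act ρ weylEl e1) e1 with hθ
  have hwe1 : act ρ weylEl e1 = θ • e2 := E.weyl1 hρ ha0
  have hθ0 : θ ≠ 0 := fun e => by
    have h := E.hyp.h12
    rw [← act_iso hρ weylEl e1 e2, hwe1, e, zero_smul, alt_zero_left] at h
    exact zero_ne_one h
  have rel : ∀ a : Kˣ, θ * c ((a⁻¹ : Kˣ) : K) = (χ a)⁻¹ * b (a : K) := fun a => by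
    have h := E.rel hρ a e1
    rwa [hwe1, alt_smul_right] at h
  have b1 : b 1 ≠ 0 := by
    intro hb1
    have hc1 : c 1 = 0 := by
      have h := rel 1
      rw [inv_one, Units.val_one, hb1, mul_zero] at h
      exact (mul_eq_zero.1 h).resolve_left hθ0
    refine E.no_plane hρ hirr (fun z => ?_) (fun z => ?_)
    · rcases eq_or_ne z 0 with rfl | hz
      · exact b0
      obtain ⟨a, rfl⟩ := unit z hz
      show b _ = 0
      rw [wb, hb1, mul_zero]
    · rcases eq_or_ne z 0 with rfl | hz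
      · exact c0
      obtain ⟨a, rfl⟩ := unit z hz
      show c _ = 0
      rw [wc, hc1, mul_zero]
  have c1 : c 1 ≠ 0 := fun h => b1 (by
    have h' := rel 1
    rw [inv_one, Units.val_one, h, mul_zero, E.χone, inv_one, one_mul] at h'
    exact h'.symm)
  have q1 : q 1 = 0 := by
    have h := cadd 1 1
    rw [CharTwo.add_self_eq_zero, c0, CharTwo.add_self_eq_zero, zero_add] at h
    exact (mul_eq_zero.1 h.symm).resolve_left b1
  have hq : ∀ z, q z = 0 := fun z => by
    rcases eq_or_ne z 0 with rfl | hz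
    · exact q0
    obtain ⟨a, rfl⟩ := unit z hz
    rw [wq, q1, mul_zero]
  set κ := (θ * c 1 * c 1)⁻¹ with hκ
  have hκ0 : θ * c 1 * c 1 ≠ 0 := mul_ne_zero (mul_ne_zero hθ0 c1) c1
  have hβ : ∀ z, β z = κ * (b z * c z) := fun z => by
    rcases eq_or_ne z 0 with rfl | hz
    · simp only [β, upEl_zero, act_one, alt_self, b0, zero_mul, mul_zero]
    obtain ⟨s, hs⟩ := exists_sqrt_unit (Units.mk0 z hz)
    set a := Units.mk0 z hz with ha
    have hsi : ((s⁻¹ : Kˣ) : K) ^ 2 * 1 = ((a⁻¹ : Kˣ) : K) := by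
      rw [mul_one, Units.val_inv_eq_inv_val, Units.val_inv_eq_inv_val, inv_pow, hs]
    have hza : (s : K) ^ 2 * 1 = z := by rw [mul_one, hs]; rfl
    have hcc : c ((a⁻¹ : Kˣ) : K) * c z = c 1 * c 1 := by
      rw [← hsi, ← hza, wc, wc, E.χinv, E.ψinv]
      field_simp [E.χ0 s, E.ψ0 s]
    have hr := rel a
    have hb : β z = χ a := E.beta hρ a
    have hχ : b (a : K) = χ a * (θ * c ((a⁻¹ : Kˣ) : K)) := by
      rw [hr, ← mul_assoc, mul_inv_cancel₀ (E.χ0 a), one_mul]
    rw [hb, hκ, eq_inv_mul_iff_mul_eq₀ hκ0, show b z = b (a : K) from rfl, hχ]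
    linear_combination -(χ a * θ) * hcc
  have hκ1 : κ = 1 := by
    by_contra hne
    have hprop : ∀ z, c z * b 1 = b z * c 1 := fun z => by
      have h := βadd 1 z
      rw [hβ, hβ, hβ, badd, cadd, q1, mul_zero, add_zero] at h
      have h' : (κ + 1) * (b 1 * c z + b z * c 1) = 0 := by
        have h2 : (2 : K) = 0 := CharP.cast_eq_zero K 2
        linear_combination h + (b 1 * c z + b z * c 1) * h2
      have h'' := (mul_eq_zero.1 h').resolve_left fun e => hne (CharTwo.add_eq_zero.1 e)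
      rw [mul_comm (c z)]
      exact CharTwo.add_eq_zero.1 h''
    refine ha0 ?_
    have h := hprop ((a0 : K) ^ 2 * 1)
    rw [wb, wc] at h
    have hn : b 1 * c 1 * χ a0 ≠ 0 := mul_ne_zero (mul_ne_zero b1 c1) (E.χ0 a0)
    have h' : ψ a0 * ψ a0 = 1 := by
      field_simp [E.ψ0 a0] at h
      exact mul_left_cancel₀ (E.χ0 a0) (by linear_combination h)
    have : (ψ a0 + 1) ^ 2 = 0 := by rw [CharTwo.add_sq, sq, h', one_pow, CharTwo.add_self_eq_zero]
    exact CharTwo.add_eq_zero.1 (pow_eq_zero_iff two_ne_zero |>.1 this)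
  intro g
  refine all_of_gens (p := fun g => ∀ v, hypQuad e0 e1 e2 e3 (act ρ g v) = hypQuad e0 e1 e2 e3 v)
    (fun v => by rw [act_one]) (fun g h hg hh v => by rw [act_mul, hg, hh]) (fun z => ?_) ?_ g
  · refine E.hyp.quad_fix (hρ (upEl z)) ?_ ?_ ?_ ?_ <;> show hypQuad e0 e1 e2 e3 (act ρ (upEl z) _) = 0 <;>
      unfold hypQuad
    · rw [E.u0, alt_self, E.hyp.h02, mul_zero, zero_mul, add_zero]
    · rw [E.perp0 hρ z h10, show altForm4 (act ρ (upEl z) e1) e1 = 0 from r0 z, mul_zero, mul_zero, add_zero]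
    · rw [E.perp0 hρ z h20, show altForm4 (act ρ (upEl z) e2) e2 = 0 from hq z, mul_zero, zero_mul, add_zero]
    · rw [E.pair03 hρ, mul_one]
      show β z + c z * b z = 0
      rw [hβ, hκ1, one_mul, mul_comm (b z), CharTwo.add_self_eq_zero]
  · refine E.hyp.quad_fix (hρ weylEl) ?_ ?_ ?_ ?_ <;> show hypQuad e0 e1 e2 e3 (act ρ weylEl _) = 0 <;>
      unfold hypQuad
    · rw [E.w0, alt_self, E.hyp.h32, zero_mul, zero_mul, add_zero]
    · rw [hwe1, alt_smul_left, alt_smul_left, alt_smul_left, alt_smul_left, h20, alt_self, mul_zero, mul_zero, zero_mul,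
        zero_add]
    · have h0 : altForm4 (act ρ weylEl e2) e0 = 0 := by rw [← E.w3, act_iso hρ, alt_comm, E.hyp.h32]
      have h1 : altForm4 (act ρ weylEl e2) e1 = 0 := by
        have h := act_iso hρ weylEl e2 (act ρ weylEl e1)
        rw [← act_mul, weyl_sq, act_one, hwe1, alt_smul_right, alt_self, mul_zero] at h
        exact h
      rw [h0, h1, mul_zero, mul_zero, add_zero]
    · rw [E.w3, alt_self, E.hyp.h02, mul_zero, zero_mul, add_zero]

end frame

include hρ hirr h4 in
/-- Such a representation fixes a quadratic form with the given polar form. -/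
theorem exists_quad_of_hom : ∃ Q : VV → K, Cfsg.Geo.IsNondegenerateQuadraticForm Q ∧
    (∀ u v, Q (u + v) = Q u + Q v + altForm4 u v) ∧ ∀ g v, Q (act ρ g v) = Q v := by
  classical
  obtain ⟨e0, e1, e2, e3, χ, ψ, E⟩ := exists_frame hρ hirr
  by_cases hr : altForm4 (act ρ (upEl 1) e1) e1 = 0
  · exact ⟨_, E.hyp.quad_nondegenerate, E.hyp.quad_add, E.quad_fixed hρ hirr h4 hr⟩
  by_cases hq : altForm4 (act ρ (upEl 1) e2) e2 = 0
  · exact ⟨_, E.swap.hyp.quad_nondegenerate, E.swap.hyp.quad_add, E.swap.quad_fixed hρ hirr h4 hq⟩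
  exfalso
  have h10 : altForm4 e1 e0 = 0 := by rw [alt_comm]; exact E.hyp.h01
  have h20 : altForm4 e2 e0 = 0 := by rw [alt_comm]; exact E.hyp.h02
  have hP : ∀ z : K, z ≠ 0 → altForm4 (act ρ (upEl z) e1) e2 = altForm4 (act ρ (upEl 1) e1) e2 := fun z hz => by
    obtain ⟨a, ha⟩ := exists_sqrt_unit (Units.mk0 z hz)
    rw [Units.val_mk0] at ha
    rw [← ha, ← mul_one ((a : K) ^ 2), E.weight hρ a 1 (E.inv1 a) (E.inv2 a), inv_mul_cancel₀ (E.ψ0 a), one_mul]
  set P := altForm4 (act ρ (upEl 1) e1) e2 with hPd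
  have hs : ∀ z, altForm4 (act ρ (upEl z) e2) e1 = altForm4 (act ρ (upEl z) e1) e2 := fun z => by
    rw [E.flip hρ, alt_comm]
  set r1 := altForm4 (act ρ (upEl 1) e1) e1 with hr1
  set q1 := altForm4 (act ρ (upEl 1) e2) e2 with hq1
  have heq : P * P + r1 * q1 = 1 := by
    have h := E.comp hρ 1 1 e1 e2
    rw [CharTwo.add_self_eq_zero, upEl_zero, act_one, E.hyp.h12, E.perp0 hρ 1 h20, E.perp0 hρ 1 h10, hs] at h
    simp only [mul_zero, zero_mul, zero_add] at h
    exact h.symm
  have hne : ∀ z : K, z ≠ 0 → z ≠ 1 → P * P + altForm4 (act ρ (upEl z) e1) e1 * q1 = P := fun z hz hz1 => by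
    have h := E.comp hρ 1 z e1 e2
    rw [hP (1 + z) (fun e => hz1 (CharTwo.add_eq_zero.1 e).symm), E.perp0 hρ 1 h20, E.perp0 hρ z h10, hs, hP z hz] at h
    simp only [mul_zero, zero_mul, zero_add] at h
    exact h.symm
  obtain ⟨x, hx0, hx1⟩ : ∃ x : K, x ≠ 0 ∧ x ≠ 1 := by
    by_contra hc
    push Not at hc
    have : Fintype.card K ≤ 2 := by
      rw [← Finset.card_univ]
      refine (Finset.card_le_card (t := {(0 : K), 1}) fun y _ => ?_).trans Finset.card_le_two
      rcases eq_or_ne y 0 with rfl | hy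
      · simp
      · simp [hc y hy]
    omega
  obtain ⟨s, hsx⟩ := exists_sqrt_unit (Units.mk0 x hx0)
  rw [Units.val_mk0] at hsx
  have hsi : ((s⁻¹ : Kˣ) : K) ^ 2 = x⁻¹ := by rw [Units.val_inv_eq_inv_val, inv_pow, hsx]
  have e1' := hne x hx0 hx1
  have e2' := hne x⁻¹ (inv_ne_zero hx0) (by simpa using hx1)
  rw [← hsx, ← mul_one ((s : K) ^ 2), E.weight hρ s 1 (E.inv1 s) (E.inv1 s)] at e1'
  rw [← hsi, ← mul_one (((s⁻¹ : Kˣ) : K) ^ 2), E.weight hρ s⁻¹ 1 (E.inv1 s⁻¹) (E.inv1 s⁻¹), E.ψinv, inv_inv] at e2'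
  have hR : (ψ s * ψ s) * (r1 * q1) = (ψ s)⁻¹ * (ψ s)⁻¹ * (r1 * q1) := by linear_combination e2' - e1'
  have h4' := mul_right_cancel₀ (mul_ne_zero hr hq) hR
  have hψ : ψ s = 1 := by
    field_simp [E.ψ0 s] at h4'
    exact one_of_four h4'
  rw [hψ, inv_one, one_mul, one_mul] at e1'
  have hP1 : P = 1 := e1'.symm.trans heq
  rw [hP1, one_mul] at heq
  exact mul_ne_zero hr hq (by linear_combination heq)
where
  one_of_four {l : K} (h : l ^ 4 = 1) : l = 1 := by
    have h2 : (2 : K) = 0 := CharP.cast_eq_zero K 2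
    have : (l - 1) ^ 4 = 0 := by linear_combination h - (2 * l ^ 3 - 3 * l ^ 2 + 2 * l - 1) * h2
    exact sub_eq_zero.1 (pow_eq_zero_iff (by norm_num) |>.1 this)

end Cfsg.Lib.SpFourResidual
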