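import Cfsg.Agent.SpFourResidual.Traces
import Cfsg.Agent.SpFourResidual.LTwoModel
import Mathlib.LinearAlgebra.Matrix.Charpoly.FiniteField

/-!
The socle is not the special linear group in two dimensions over a field of characteristic two.
-/

set_option autoImplicit false
set_option linter.unusedSectionVars false
set_option linter.style.haveILetI false

namespace Cfsg.Lib.SpFourResidual

open Matrix Cfsg.Lie Cfsg.Geo
open scoped MatrixGroups

universe u

variable {F : Type u} [Field F] [CharP F 2] [Finite F]

local notation "MM" => Matrix (Fin 4) (Fin 4) F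
local notation "GG" => GL (Fin 4) F

theorem sl_two_frobenius {K : Type*} [Field K] [Fintype K] [CharP K 2] (g : SL(2, K)) :
    g * g = 1 ∨ g ^ Fintype.card K = g ∨ g ^ Fintype.card K = g⁻¹ := by
  classical
  set q := Fintype.card K with hq
  set M : Matrix (Fin 2) (Fin 2) K := g.1 with hM
  set t : K := M 0 0 + M 1 1 with ht
  have hd : M 0 0 * M 1 1 - M 0 1 * M 1 0 = 1 := by rw [← Matrix.det_fin_two]; exact g.2
  have h2 : (2 : K) = 0 := CharP.cast_eq_zero K 2
  have hCH : M * M + t • M + 1 = 0 := by
    ext i j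
    fin_cases i <;> fin_cases j <;> simp [Matrix.mul_apply, Fin.sum_univ_two, ht]
    · linear_combination (M 0 0 * M 0 0 + M 0 0 * M 1 1) * h2 - hd
    · linear_combination (M 0 0 * M 0 1 + M 0 1 * M 1 1) * h2
    · linear_combination (M 1 0 * M 0 0 + M 1 1 * M 1 0) * h2
    · linear_combination (M 1 1 * M 1 1 + M 0 0 * M 1 1) * h2 - hd
  by_cases ht0 : t = 0
  · left
    refine Subtype.ext ?_
    rw [ht0, zero_smul, add_zero] at hCH
    have h1 : M * M = 1 := Matrix.ext fun i j => CharTwo.add_eq_zero.1 (congrFun (congrFun hCH i) j)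
    simpa [Matrix.SpecialLinearGroup.coe_mul, ← hM] using h1
  right
  -- powers lie in the span of the identity and the matrix
  have hspan : ∀ k : ℕ, ∃ a b : K, M ^ k = a • 1 + b • M := by
    intro k
    induction k with
    | zero => exact ⟨1, 0, by simp⟩
    | succ k ih =>
      obtain ⟨a, b, h⟩ := ih
      refine ⟨b, a + b * t, ?_⟩
      have hMM : M * M = t • M + 1 := Matrix.ext fun i j => by
        have := congrFun (congrFun hCH i) j
        simp only [Matrix.add_apply, Matrix.zero_apply] at this ⊢
        exact CharTwo.add_eq_zero.1 (by rw [← add_assoc]; exact this)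
      rw [pow_succ, h, add_mul, smul_mul_assoc, smul_mul_assoc, one_mul, hMM]
      module
  obtain ⟨a, b, hab⟩ := hspan q
  haveI : Fact (Nat.Prime 2) := ⟨Nat.prime_two⟩
  obtain ⟨n, -, hn⟩ := FiniteField.card K 2
  have heq : M ^ q * M ^ q + t • M ^ q + 1 = 0 := by
    let p : Polynomial K := Polynomial.X * Polynomial.X + Polynomial.C t * Polynomial.X + 1
    have hp : p ^ q = Polynomial.expand K q p := (FiniteField.expand_card p).symm
    have h := congrArg (Polynomial.aeval M) hp
    rw [map_pow, Polynomial.expand_aeval] at h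
    simp only [p, map_add, map_mul, map_one, Polynomial.aeval_X, Polynomial.aeval_C, ← Algebra.smul_def] at h
    rw [hCH, zero_pow Fintype.card_ne_zero] at h
    exact h.symm
  have htr : (M ^ q).trace = t := by
    have e1 : M.trace = t := by rw [Matrix.trace_fin_two]
    rw [FiniteField.trace_pow_card, e1]
    exact FiniteField.pow_card t
  have hb : b = 1 := by
    rw [hab, Matrix.trace_add, Matrix.trace_smul, Matrix.trace_smul, Matrix.trace_one, Fintype.card_fin,
      Matrix.trace_fin_two, ← ht, Nat.cast_ofNat, smul_eq_mul, smul_eq_mul, h2, mul_zero, zero_add] at htr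
    exact mul_right_cancel₀ ht0 (htr.trans (one_mul t).symm)
  rw [hb, one_smul] at hab
  have ha : a * (a + t) = 0 := by
    rw [hab] at heq
    have h0 := congrFun (congrFun heq 0) 1
    have h1 := congrFun (congrFun heq 0) 0
    have c0 := congrFun (congrFun hCH 0) 0
    simp [Matrix.mul_apply, Fin.sum_univ_two] at h1 c0
    linear_combination h1 - c0 + (-(a * M 0 0) ) * h2
  have key : g ^ q = g ∨ g ^ q = g⁻¹ := by
    rcases mul_eq_zero.1 ha with h | h
    · left
      refine Subtype.ext ?_
      rw [h, zero_smul, zero_add] at hab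
      simpa [Matrix.SpecialLinearGroup.coe_pow, ← hM] using hab
    · right
      have hat : a = t := CharTwo.add_eq_zero.1 h
      refine eq_inv_of_mul_eq_one_left (Subtype.ext ?_)
      rw [Matrix.SpecialLinearGroup.coe_mul, Matrix.SpecialLinearGroup.coe_pow, ← hM, hab, hat, add_mul, smul_mul_assoc,
        one_mul, Matrix.SpecialLinearGroup.coe_one]
      refine Matrix.ext fun i j => ?_
      have := congrFun (congrFun hCH i) j
      simp only [Matrix.add_apply, Matrix.smul_apply, Matrix.zero_apply, smul_eq_mul] at this ⊢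
      linear_combination this + (-((1 : Matrix (Fin 2) (Fin 2) K) i j)) * h2
  exact key

/-- A map of fields commutes with the symplectic form. -/
theorem map_mem_Sp4 {K : Type*} [Field K] (φ : F →+* K) {g : GG} (hg : g ∈ Sp4 F) :
    Matrix.GeneralLinearGroup.map φ g ∈ Sp4 K := by
  refine mem_of_mat' ?_
  have h := congrArg (fun M : MM => M.map φ) (mat_col hg)
  simp only [Matrix.map_mul, Matrix.transpose_map] at h
  have hJ : (Cfsg.suzukiForm F).map φ = Cfsg.suzukiForm K := by
    ext i j; fin_cases i <;> fin_cases j <;> simp [Cfsg.suzukiForm]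
  rw [hJ] at h
  exact h
where
  mem_of_mat' {K : Type _} [Field K] {g : GL (Fin 4) K}
      (h : (g : Matrix (Fin 4) (Fin 4) K)ᵀ * Cfsg.suzukiForm K * (g : Matrix (Fin 4) (Fin 4) K) = Cfsg.suzukiForm K) :
      g ∈ Sp4 K := by
    refine mem_Sp4.2 fun u v => ?_
    rw [alt_eq_dot, alt_eq_dot, Matrix.mulVec_mulVec, Matrix.dotProduct_mulVec, Matrix.dotProduct_mulVec,
      ← Matrix.vecMul_transpose, Matrix.vecMul_vecMul, ← mul_assoc, h]

/-- The socle is not isomorphic to SL(2) over a field of characteristic two. -/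
theorem Core4.not_sl_two {P : Subgroup (GL (Fin 4) F)} (C : Core4 P) (h4 : 4 ≤ Nat.card F)
    {K : Type} [Field K] [Fintype K] [CharP K 2] (e : SL(2, K) ≃* P) : False := by
  classical
  haveI : Fintype F := Fintype.ofFinite F
  haveI : Fact (Nat.Prime 2) := ⟨Nat.prime_two⟩
  obtain ⟨f, -, hf⟩ := FiniteField.card F 2
  obtain ⟨n, -, hn⟩ := FiniteField.card K 2
  have htr : ∀ g ∈ P, tr4 g ^ 2 ^ (n : ℕ) = tr4 g := fun g hg => by
    have he : ∀ x : SL(2, K), ((e x : P) : GG) ^ 2 ^ (n : ℕ) = ((e (x ^ Fintype.card K) : P) : GG) := fun x => by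
      rw [hn, map_pow, SubmonoidClass.coe_pow]
    obtain ⟨x, hx⟩ := e.surjective ⟨g, hg⟩
    have hgx : g = ((e x : P) : GG) := by rw [hx]
    rcases sl_two_frobenius x with h | h | h
    · have h1 : g ^ 2 ^ 1 = 1 := by
        rw [pow_one, pow_two, hgx, ← Subgroup.coe_mul, ← map_mul, h, map_one, Subgroup.coe_one]
      rw [tr4_unipotent h1, zero_pow (pow_ne_zero _ two_ne_zero)]
    · exact tr4_fixed (C.le hg) (c := 1) (Or.inl (by rw [hgx, he, h]; simp))
    · exact tr4_fixed (C.le hg) (c := 1) (Or.inr (by rw [hgx, he, h, map_inv]; simp))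
  have hfn : (f : ℕ) ∣ (n : ℕ) := C.dvd_of_traces (by rw [Nat.card_eq_fintype_card, hf]) htr
  obtain ⟨φ⟩ : Nonempty (F →+* K) := by
    letI : Algebra (ZMod 2) F := ZMod.algebra F 2
    letI : Algebra (ZMod 2) K := ZMod.algebra K 2
    have h1 : Module.finrank (ZMod 2) F = (f : ℕ) := by
      have := Module.card_eq_pow_finrank (K := ZMod 2) (V := F)
      rw [hf, ZMod.card] at this
      exact (Nat.pow_right_injective le_rfl this).symm
    have h2 : Module.finrank (ZMod 2) K = (n : ℕ) := by
      have := Module.card_eq_pow_finrank (K := ZMod 2) (V := K)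
      rw [hn, ZMod.card] at this
      exact (Nat.pow_right_injective le_rfl this).symm
    obtain ⟨a⟩ := FiniteField.nonempty_algHom_of_finrank_dvd (F := ZMod 2) (K := F) (L := K) (by rwa [h1, h2])
    exact ⟨a.toRingHom⟩
  let ρ : SL(2, K) →* GL (Fin 4) K := (Matrix.GeneralLinearGroup.map φ).comp (P.subtype.comp e.toMonoidHom)
  have hρ : ∀ x, ρ x ∈ Sp4 K := fun x => map_mem_Sp4 φ (C.le (e x).2)
  have hirr : Irr4 ρ := by
    intro W hW
    have hall : ∀ Y : MM, ∀ w ∈ W, Y.map φ *ᵥ w ∈ W := by
      intro Y
      have hY := Cfsg.Lib.MitchellThree.Residual.span_eq_top C.absIrred Y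
      induction hY using Submodule.span_induction with
      | mem x hx =>
        obtain ⟨g, hg, rfl⟩ := hx
        intro w hw
        obtain ⟨y, hy⟩ := e.surjective ⟨g, hg⟩
        have := hW y w hw
        simp only [act, ρ, MonoidHom.comp_apply, MulEquiv.coe_toMonoidHom, hy] at this
        exact this
      | zero => intro w _; rw [Matrix.map_zero _ (map_zero φ), Matrix.zero_mulVec]; exact zero_mem _
      | add a b _ _ ha hb =>
        intro w hw; rw [Matrix.map_add _ (map_add φ), Matrix.add_mulVec]; exact add_mem (ha w hw) (hb w hw)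
      | smul c a _ ha =>
        intro w hw; rw [Matrix.map_smul' _ c a (map_mul φ), Matrix.smul_mulVec]; exact W.smul_mem _ (ha w hw)
    rcases eq_or_ne W ⊥ with h | h
    · exact Or.inl h
    obtain ⟨w, hw, hw0⟩ := (Submodule.ne_bot_iff W).1 h
    obtain ⟨j, hj⟩ := Function.ne_iff.1 hw0
    refine Or.inr (Submodule.eq_top_iff'.2 fun v => ?_)
    rw [pi_eq_sum_univ' v]
    refine sum_mem fun i _ => W.smul_mem _ ?_
    have := W.smul_mem (w j)⁻¹ (hall (Matrix.single i j 1) w hw)
    rw [Matrix.map_single, map_one] at this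
    convert this using 1
    funext a
    simp [Matrix.single_mulVec, Function.update_apply, Pi.single_apply]
    split_ifs <;> simp_all
  have hK4 : 4 ≤ Fintype.card K := by
    rw [hn]
    refine le_trans ?_ (Nat.pow_le_pow_right two_pos (Nat.le_of_dvd n.pos hfn))
    rw [← hf, ← Nat.card_eq_fintype_card]
    exact h4
  obtain ⟨Q, ⟨hQs, -, -⟩, hadd, hfix⟩ := exists_quad_of_hom hρ hirr hK4
  let τ : K →+* K := iterateFrobenius K 2 (f : ℕ)
  have hτ : ∀ x : F, τ (φ x) = φ x := fun x => by
    show iterateFrobenius K 2 (f : ℕ) (φ x) = _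
    rw [iterateFrobenius_def, ← map_pow, ← hf, FiniteField.pow_card]
  have hmv : ∀ (g : GG) (v : Fin 4 → K) (w : Fin 4 → K), (∀ i, w i = τ (v i)) →
      ∀ i, ((g : MM).map φ *ᵥ w) i = τ (((g : MM).map φ *ᵥ v) i) := fun g v w hwv i => by
    simp [Matrix.mulVec, dotProduct, map_sum, hwv, hτ]
  let D : (Fin 4 → K) → K := fun v => Q (fun i => τ (v i)) + τ (Q v)
  have halt : ∀ u v : Fin 4 → K, altForm4 (fun i => τ (u i)) (fun i => τ (v i)) = τ (altForm4 u v) := fun u v => by
    simp [altForm4]
  have Dadd : ∀ u v, D (u + v) = D u + D v := fun u v => by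
    simp only [D]
    rw [show (fun i => τ ((u + v) i)) = (fun i => τ (u i)) + fun i => τ (v i) from funext fun i => map_add τ _ _,
      hadd, hadd, halt, map_add, map_add]
    linear_combination (τ (altForm4 u v)) * (CharP.cast_eq_zero K 2 : (2 : K) = 0)
  let S : Submodule K (Fin 4 → K) :=
    { carrier := {v | D v = 0}
      add_mem' := fun {u v} hu hv => by
        show D (u + v) = 0
        rw [Dadd, show D u = 0 from hu, show D v = 0 from hv, add_zero]
      zero_mem' := by
        have := Dadd 0 0
        rw [add_zero] at this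
        show D 0 = 0
        linear_combination -this
      smul_mem' := fun c v hv => by
        show D (c • v) = 0
        simp only [D]
        rw [show (fun i => τ ((c • v) i)) = τ c • fun i => τ (v i) from funext fun i => map_mul τ _ _, hQs, hQs,
          map_mul, map_pow, ← mul_add, show Q (fun i => τ (v i)) + τ (Q v) = 0 from hv, mul_zero] }
  have hSinv : ∀ x, ∀ v ∈ S, act ρ x v ∈ S := fun x v hv => by
    show D (act ρ x v) = 0
    simp only [D]
    have e1 : (fun i => τ (act ρ x v i)) = act ρ x fun i => τ (v i) :=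
      funext fun i => (hmv (e x : P) v _ (fun _ => rfl) i).symm
    rw [e1, hfix, hfix]
    exact hv
  have hS : S = ⊤ := by
    refine (hirr S hSinv).resolve_left fun h => ?_
    have hinj : Function.Injective D := fun u v huv => by
      have : u + v ∈ S := show D (u + v) = 0 by rw [Dadd, huv, CharTwo.add_self_eq_zero]
      rw [h, Submodule.mem_bot] at this
      exact funext fun i => CharTwo.add_eq_zero.1 (congrFun this i)
    have := Fintype.card_le_of_injective D hinj
    rw [Fintype.card_fun, Fintype.card_fin] at this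
    exact absurd this (not_le.2 (lt_self_pow₀ Fintype.one_lt_card (by norm_num)))
  have hrange : ∀ x : K, τ x = x → ∃ y : F, φ y = x := by
    intro x hx
    by_contra hc
    push Not at hc
    have hroots : ∀ y ∈ insert x (Finset.univ.image φ),
        (Polynomial.X ^ 2 ^ (f : ℕ) - Polynomial.X : Polynomial K).eval y = 0 := fun y hy => by
      have : τ y = y := by
        rcases Finset.mem_insert.1 hy with rfl | hy
        · exact hx
        · obtain ⟨z, -, rfl⟩ := Finset.mem_image.1 hy
          exact hτ z
      rw [show τ y = y ^ 2 ^ (f : ℕ) from iterateFrobenius_def 2 _ _] at this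
      simp [this]
    have h1 : 1 < 2 ^ (f : ℕ) := Nat.one_lt_pow f.pos.ne' one_lt_two
    refine FiniteField.X_pow_card_sub_X_ne_zero K h1
      (Polynomial.eq_zero_of_natDegree_lt_card_of_eval_eq_zero' _ _ hroots ?_)
    rw [FiniteField.X_pow_card_sub_X_natDegree_eq K h1, Finset.card_insert_of_notMem (by simpa using hc),
      Finset.card_image_of_injective _ φ.injective, Finset.card_univ, hf]
    exact Nat.lt_succ_self _
  have hval : ∀ w : Fin 4 → F, ∃ y : F, φ y = Q (fun i => φ (w i)) := fun w => by
    refine hrange _ ?_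
    have this : D (fun i => φ (w i)) = 0 := Submodule.eq_top_iff'.1 hS fun i => φ (w i)
    simp only [D, hτ] at this
    exact (CharTwo.add_eq_zero.1 this).symm
  choose Q₀ hQ₀ using hval
  have haltφ : ∀ u v : Fin 4 → F, altForm4 (fun i => φ (u i)) (fun i => φ (v i)) = φ (altForm4 u v) := fun u v => by
    simp [altForm4]
  have hadd₀ : ∀ u v, Q₀ (u + v) = Q₀ u + Q₀ v + altForm4 u v := fun u v => φ.injective (by
    rw [map_add, map_add, hQ₀, hQ₀, hQ₀,
      show (fun i => φ ((u + v) i)) = (fun i => φ (u i)) + fun i => φ (v i) from funext fun i => map_add φ _ _,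
      hadd, haltφ])
  refine C.no_quad ⟨Q₀, ⟨fun c v => φ.injective ?_, ?_, ?_⟩, ?_⟩
  · rw [map_mul, map_pow, hQ₀, hQ₀, show (fun i => φ ((c • v) i)) = φ c • fun i => φ (v i) from
      funext fun i => map_mul φ _ _, hQs]
  · rw [show QuadraticMap.polar Q₀ = altForm4 from funext fun u => funext fun v => by
      rw [QuadraticMap.polar, hadd₀]; ring]
    exact ⟨alt_add_left, alt_smul_left, alt_add_right, alt_smul_right⟩
  · rw [show QuadraticMap.polar Q₀ = altForm4 from funext fun u => funext fun v => by
      rw [QuadraticMap.polar, hadd₀]; ring]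
    intro v hv
    obtain ⟨x, hx⟩ := alt_nondeg hv
    exact ⟨⟨x, by rwa [alt_comm]⟩, x, hx⟩
  · rintro _ ⟨g, hg, rfl⟩ v
    obtain ⟨x, hx⟩ := e.surjective ⟨g, hg⟩
    refine φ.injective ?_
    rw [hQ₀, hQ₀, show (fun i => φ (((g : MM) *ᵥ v) i)) = act ρ x fun i => φ (v i) from funext fun i => by
      simp [act, ρ, hx, Matrix.mulVec, dotProduct, map_sum], hfix]

end Cfsg.Lib.SpFourResidual
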