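import Cfsg.Agent.Suz.Partition
import Cfsg.Agent.Suz.Lie

/-!
In a Suzuki group over `q` elements every element has order dividing four or is conjugate to its `q`-th power.
-/

set_option autoImplicit false
set_option linter.unusedSectionVars false
set_option linter.style.haveILetI false

open Matrix Polynomial
open scoped MatrixGroups

namespace Cfsg.Lib.Suz

variable {F : Type*} [Field F] [Fintype F] {m : ℕ} (Q : Par F m)
include Q

theorem full_weyl_frob {x : Cfsg.Sz F m} (hx : Free Q x)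
    (hN : Nat.card (Subgroup.normalizer (tor x : Set (Cfsg.Sz F m))) = 4 * Nat.card (tor x)) :
    ∃ c, c * x * c⁻¹ = x ^ Fintype.card F := by
  classical
  obtain ⟨-, -, h, p, hp, ho, hd, -, e⟩ := tor_spec Q hx
  have hp2 : p ≠ 2 := by
    rintro rfl
    rw [← pow_mul, show (2 * m + 1) * 2 = (4 * m + 1) + 1 by ring, pow_succ] at hd
    omega
  let coeM : Cfsg.Sz F m →* Matrix (Fin 4) (Fin 4) F :=
    { toFun := fun g => g.1.1, map_one' := rfl, map_mul' := fun _ _ => rfl }
  have hcoe : Function.Injective coeM := fun g g' e => Subtype.ext (Subtype.ext e)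
  set M := coeM h with hMdef
  obtain ⟨hirr, hdeg⟩ := minpoly_deg_four M hp Q.hF (charP Q) hp2 hd
    (by rw [hMdef, ← map_pow, ← ho, pow_orderOf_eq_one, map_one])
    (fun e => hp.ne_one (by rw [← ho, orderOf_eq_one_iff]; exact hcoe (e.trans (map_one coeM).symm)))
  have : Fact (Irreducible (minpoly F M)) := ⟨hirr⟩
  obtain ⟨ι, hι, hsurj⟩ := commutant M hirr hdeg
  have hxx : x ∈ tor x := mem_tor.2 (Commute.refl x)
  set A := tor x with hA
  have hmem : ∀ g ∈ A, ∃ f, ι f = coeM g := fun g hg => hsurj _ (by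
    rw [e] at hg
    rw [hMdef, ← map_mul, ← map_mul, (mem_tor.1 hg).eq])
  choose ev he using hmem
  set N := Subgroup.normalizer (A : Set (Cfsg.Sz F m)) with hNdef
  set φ := minpoly F (coeM x) with hφ
  let R := φ.rootSet (AdjoinRoot (minpoly F M))
  have hφ0 : φ ≠ 0 := minpoly.ne_zero (Matrix.isIntegral _)
  have hR : R.ncard ≤ 4 := by
    refine (ncard_rootSet_le _ _).trans ?_
    have h1 := Polynomial.natDegree_le_of_dvd (Matrix.minpoly_dvd_charpoly (coeM x))
      (Matrix.charpoly_monic (coeM x)).ne_zero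
    rwa [Matrix.charpoly_natDegree_eq_dim, Fintype.card_fin] at h1
  have hconjmem : ∀ n : N, n.1 * x * n.1⁻¹ ∈ A := fun n => (Subgroup.mem_normalizer_iff.1 n.2 x).1 hxx
  let f : N ⧸ A.subgroupOf N → R := fun c => ⟨ev _ (hconjmem c.out), by
    rw [Polynomial.mem_rootSet_of_ne hφ0]
    apply hι
    rw [← Polynomial.aeval_algHom_apply, he, map_zero, map_mul, map_mul]
    set a := c.out.1
    have h1 : coeM a⁻¹ * coeM a = 1 := by rw [← map_mul, inv_mul_cancel, map_one]
    have key : ∀ P : F[X], aeval (coeM a * coeM x * coeM a⁻¹) P = coeM a * aeval (coeM x) P * coeM a⁻¹ := by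
      intro P
      induction P using Polynomial.induction_on' with
      | add p q hp hq => rw [map_add, map_add, hp, hq, mul_add, add_mul]
      | monomial n b =>
        rw [aeval_monomial, aeval_monomial, ← Algebra.smul_def, ← Algebra.smul_def, mul_smul_comm, smul_mul_assoc]
        congr 1
        induction n with
        | zero => rw [pow_zero, pow_zero, mul_one, ← map_mul, mul_inv_cancel, map_one]
        | succ n ih =>
          rw [pow_succ, ih, pow_succ, show coeM a * coeM x ^ n * coeM a⁻¹ * (coeM a * coeM x * coeM a⁻¹) =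
            coeM a * coeM x ^ n * (coeM a⁻¹ * coeM a) * coeM x * coeM a⁻¹ by simp only [mul_assoc], h1, mul_one]
          simp only [mul_assoc]
    rw [key, minpoly.aeval, mul_zero, zero_mul]⟩
  have hf : Function.Injective f := by
    intro a b hab
    have h1 : a.out.1 * x * a.out.1⁻¹ = b.out.1 * x * b.out.1⁻¹ := hcoe (by
      rw [← he _ (hconjmem a.out), ← he _ (hconjmem b.out)]
      exact congrArg ι (congrArg Subtype.val hab))
    rw [← QuotientGroup.out_eq' a, ← QuotientGroup.out_eq' b, QuotientGroup.eq, Subgroup.mem_subgroupOf]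
    show a.out.1⁻¹ * b.out.1 ∈ A
    refine mem_tor.2 ?_
    show _ = _
    calc a.out.1⁻¹ * b.out.1 * x = a.out.1⁻¹ * (b.out.1 * x * b.out.1⁻¹) * b.out.1 := by group
      _ = a.out.1⁻¹ * (a.out.1 * x * a.out.1⁻¹) * b.out.1 := by rw [h1]
      _ = x * (a.out.1⁻¹ * b.out.1) := by group
  have hidx : Nat.card (N ⧸ A.subgroupOf N) = 4 := by
    have h1 := (A.subgroupOf N).card_mul_index
    rw [Nat.card_congr (Subgroup.subgroupOfEquivOfLe (Subgroup.le_normalizer (H := A))).toEquiv, hN,
      mul_comm 4] at h1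
    exact Nat.eq_of_mul_eq_mul_left Nat.card_pos h1
  have hsur : Function.Surjective f := (hf.bijective_of_nat_card_le (by rw [hidx, Nat.card_coe_set_eq]; exact hR)).2
  set ξ := ev x hxx
  have hroot : ξ ^ Fintype.card F ∈ R := by
    rw [Polynomial.mem_rootSet_of_ne hφ0]
    have h0 : aeval ξ φ = 0 := hι (by rw [← Polynomial.aeval_algHom_apply, he, map_zero, minpoly.aeval])
    rw [← Polynomial.expand_aeval, FiniteField.expand_card, map_pow, h0, zero_pow Fintype.card_ne_zero]
  obtain ⟨c, hc⟩ := hsur ⟨_, hroot⟩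
  refine ⟨c.out.1, hcoe ?_⟩
  rw [← he _ (hconjmem c.out), show ev _ (hconjmem c.out) = ξ ^ Fintype.card F from congrArg Subtype.val hc, map_pow,
    he, map_pow]

theorem pow_card_conj (g : Cfsg.Sz F m) : g ^ 4 = 1 ∨ ∃ c, c * g * c⁻¹ = g ^ Fintype.card F := by
  by_cases hg : g = 1
  · exact Or.inl (by rw [hg, one_pow])
  rcases elt_split Q hg with ⟨c, hc⟩ | ⟨c, k, -, e⟩ | hf
  · left
    obtain ⟨a, b, e⟩ := exists_uu Q hc
    have h4 : (c * g * c⁻¹) ^ 2 ^ 2 = 1 := by rw [e]; exact uu_four Q a b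
    rw [conj_pow, mul_inv_eq_one, mul_eq_left] at h4
    exact h4
  · refine Or.inr ⟨1, ?_⟩
    have h1 : (c * g * c⁻¹) ^ Fintype.card F = c * g * c⁻¹ := by
      rw [e, show hI Q k = hHom Q k from rfl, ← map_pow]
      congr 1
      exact Units.ext (by rw [Units.val_pow_eq_pow_val, FiniteField.pow_card])
    rw [conj_pow] at h1
    rw [one_mul, inv_one, mul_one]
    exact (mul_left_cancel (mul_right_cancel h1)).symm
  · right
    obtain ⟨a, b, ha, hb, eA, eB, hNa, hNb, hall⟩ := two_tori Q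
    obtain ⟨r, hr, hrd⟩ := Nat.exists_prime_and_dvd (n := Nat.card (tor g))
      (fun h => by have := (card_tor Q hf).2.1; omega)
    -- a torus of the same order is conjugate
    have conj_to : ∀ a' : Cfsg.Sz F m, Free Q a' → Nat.card (tor a') = Nat.card (tor g) →
        Nat.card (Subgroup.normalizer (tor a' : Set (Cfsg.Sz F m))) = 4 * Nat.card (tor a') →
        ∃ c, c * g * c⁻¹ = g ^ Fintype.card F := by
      intro a' ha' hcard hN'
      haveI : Fact r.Prime := ⟨hr⟩
      obtain ⟨P, hP⟩ := tor_sylow Q hf hr hrd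
      obtain ⟨P', hP'⟩ := tor_sylow Q ha' hr (hcard ▸ hrd)
      obtain ⟨d, hd⟩ := MulAction.exists_smul_eq (Cfsg.Sz F m) P P'
      obtain ⟨y, hy⟩ := exists_prime_orderOf_dvd_card' (G := tor g) r hrd
      obtain ⟨j, hj⟩ := (show IsPGroup r (Subgroup.zpowers (y : Cfsg.Sz F m)) from IsPGroup.of_card (n := 1)
        (by rw [Nat.card_zpowers, Subgroup.orderOf_coe, hy, pow_one])).exists_le_sylow
      obtain ⟨z, hz⟩ := MulAction.exists_smul_eq (Cfsg.Sz F m) j P'
      have hy1 : (y : Cfsg.Sz F m) ≠ 1 := fun h => hr.ne_one (by rw [← hy, ← Subgroup.orderOf_coe, h, orderOf_one])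
      have hmem : z * (y : Cfsg.Sz F m) * z⁻¹ ∈ tor a' := by
        refine hP' ?_
        rw [← hz]
        exact Subgroup.smul_mem_pointwise_smul _ (MulAut.conj z) _ (hj (Subgroup.mem_zpowers _))
      have hconj1 : z * (y : Cfsg.Sz F m) * z⁻¹ ≠ 1 := fun h => hy1 (by rwa [mul_inv_eq_one, mul_eq_left] at h)
      have e1 : tor (z * (y : Cfsg.Sz F m) * z⁻¹) = tor a' := ((tor_spec Q ha').2.1 _ hmem hconj1).2
      have e2 : tor (z * (y : Cfsg.Sz F m) * z⁻¹) = (tor g).map (MulAut.conj z).toMonoidHom :=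
        (map_conj_centralizer _ _).symm.trans
          (congrArg (fun B : Subgroup (Cfsg.Sz F m) => B.map (MulAut.conj z).toMonoidHom)
            ((tor_spec Q hf).2.1 y y.2 hy1).2)
      have hxmem : z * g * z⁻¹ ∈ tor a' := by
        rw [← e1, e2]
        exact ⟨g, mem_tor.2 (Commute.refl g), rfl⟩
      have hx1 : z * g * z⁻¹ ≠ 1 := fun h => hg (by rwa [mul_inv_eq_one, mul_eq_left] at h)
      obtain ⟨hxf, hxt⟩ := (tor_spec Q ha').2.1 _ hxmem hx1
      obtain ⟨c, hc⟩ := full_weyl_frob Q hxf (by rw [hxt]; exact hN')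
      refine ⟨z⁻¹ * c * z, ?_⟩
      rw [conj_pow] at hc
      calc z⁻¹ * c * z * g * (z⁻¹ * c * z)⁻¹ = z⁻¹ * (c * (z * g * z⁻¹) * c⁻¹) * z := by group
        _ = g ^ Fintype.card F := by rw [hc]; group
    rcases hall g hf with h | h
    · exact conj_to a ha (eA.trans h.symm) hNa
    · exact conj_to b hb (eB.trans h.symm) hNb

theorem lie_pow_card_conj (g : Cfsg.Lie.Sz F (2 ^ (m + 1))) :
    g ^ 4 = 1 ∨ ∃ c, c * g * c⁻¹ = g ^ Fintype.card F := by
  obtain ⟨x, rfl⟩ := (lieEquiv Q).surjective g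
  rcases pow_card_conj Q x with h | ⟨c, hc⟩
  · exact Or.inl (by rw [← map_pow, h, map_one])
  · exact Or.inr ⟨lieEquiv Q c, by rw [← map_inv, ← map_mul, ← map_mul, hc, map_pow]⟩

end Cfsg.Lib.Suz
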