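import Cfsg.Agent.SpFourResidual.Transv.Full
import Cfsg.Agent.SpFourResidual.Transv.Rigid
import Cfsg.Agent.SpFourResidual.Transv.Even

/-!
A simple irreducible subgroup of the symplectic group in dimension four and characteristic two containing a
transvection is the symplectic group over a subfield, up to conjugation.
-/

set_option autoImplicit false

namespace Cfsg.Lib.SpFourResidual

open Matrix Cfsg.Lie

universe u

/-- A simple irreducible subgroup with a transvection is a subfield symplectic group. -/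
theorem transvection_conj {F : Type u} [Field F] [Finite F] [CharP F 2] {P : Subgroup (GL (Fin 4) F)}
    (hP : P ≤ Cfsg.Lie.Sp4 F) (hs : IsSimpleGroup P) (hna : ¬ IsMulCommutative P)
    (hirr : ∀ W : Submodule F (Fin 4 → F),
      (∀ g ∈ P, ∀ w ∈ W, (g : Matrix (Fin 4) (Fin 4) F) *ᵥ w ∈ W) → W = ⊥ ∨ W = ⊤)
    (ht : ∃ g ∈ P, g ≠ 1 ∧ ∃ x φ : Fin 4 → F, (g : Matrix (Fin 4) (Fin 4) F) = 1 + Matrix.vecMulVec x φ) :
    ∃ h ∈ Cfsg.Lie.Sp4 F, ∃ k : Subfield F, ∀ g : GL (Fin 4) F,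
      g ∈ P ↔ (g ∈ Cfsg.Lie.Sp4 F ∧
        ∀ i j, ((h * g * h⁻¹ : GL (Fin 4) F) : Matrix (Fin 4) (Fin 4) F) i j ∈ k) := by
  have S : Setup P := ⟨hP, hs, hna, hirr⟩
  obtain ⟨g, hg, hg1, x, φ, hx⟩ := ht
  obtain ⟨v, hv0, rfl⟩ := exists_centre (hP hg) hg1 hx
  by_cases hd : ∃ u ∈ centres P, ∃ a : F, a • u ∈ centres P ∧ a ≠ 1
  · obtain ⟨u, hu, a, ha, ha1⟩ := hd
    exact S.sp_of_double hu ha ha1
  · push Not at hd
    obtain ⟨u, hu, w, hw, z, hz, huw, h0, hc, hd', hcd⟩ := S.exists_uneven ⟨v, hv0, hg⟩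
    exact (S.no_uneven hd hu hw hz huw h0 hc hd' hcd).elim

end Cfsg.Lib.SpFourResidual
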