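import Cfsg.Agent.SpFourResidual.Small
import Cfsg.Agent.SpFourResidual.LTwo
import Cfsg.Agent.SpFourResidual.SzFrob
import Cfsg.Agent.SpFourResidual.Transv
import Cfsg.Agent.CITGroups.Main
import Cfsg.Agent.SuzukiUnique.Zassenhaus

/-!
The socle of a member of the residual class in four dimensions is a Suzuki group.
-/

set_option autoImplicit false
set_option linter.unusedSectionVars false
set_option linter.style.haveILetI false

namespace Cfsg.Lib.SpFourResidual

open Matrix Cfsg.Lie Cfsg.Geo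
open scoped MatrixGroups

universe u

variable {F : Type u} [Field F] [CharP F 2] [Finite F] {P : Subgroup (GL (Fin 4) F)}

local notation "MM" => Matrix (Fin 4) (Fin 4) F
local notation "GG" => GL (Fin 4) F

theorem Core4.irr (C : Core4 P) (W : Submodule F (Fin 4 → F))
    (h : ∀ g ∈ P, ∀ w ∈ W, (g : MM) *ᵥ w ∈ W) : W = ⊥ ∨ W = ⊤ :=
  C.absIrred.1 W (by
    rintro _ ⟨g, hg, rfl⟩ _ ⟨v, hv, rfl⟩
    rw [Matrix.toLin'_apply]
    exact h g hg v hv)

theorem Core4.no_transvection (C : Core4 P)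
    (ht : ∃ g ∈ P, g ≠ 1 ∧ ∃ x φ : Fin 4 → F, (g : MM) = 1 + Matrix.vecMulVec x φ) : False := by
  obtain ⟨h, hh, k, hk⟩ := transvection_conj C.le C.simple C.nonabelian C.irr ht
  have hk1 : k = ⊤ := by
    by_contra hne
    refine C.no_subfield k hne ⟨h, ?_⟩
    rintro _ ⟨g, hg, rfl⟩ i j
    have := ((hk g).1 hg).2 i j
    rwa [Units.val_mul, Units.val_mul] at this
  exact C.proper (le_antisymm C.le fun g hg => (hk g).2 ⟨hg, fun i j => hk1 ▸ Subfield.mem_top _⟩)

theorem Core4.cit (C : Core4 P) : Cfsg.Lib.CITGroups.CIT P := by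
  classical
  haveI := C.simple
  have centraliser : ∀ (t : P), (∀ h : P, Commute h t → h ^ 4 = 1) →
      IsPGroup 2 (Subgroup.centralizer ({t} : Set P)) := fun t ht h =>
    ⟨2, Subtype.ext (ht h (Subgroup.mem_centralizer_singleton_iff.1 h.2))⟩
  by_cases halt : ∃ g ∈ P, g ≠ 1 ∧ ∃ p q : Fin 4 → F, altForm4 p q = 0 ∧
      ∀ v, (g : MM) *ᵥ v = v + (altForm4 q v • p + altForm4 p v • q)
  · obtain ⟨g, hg, hg1, p, q, hpq, hv⟩ := halt
    let φ : P →* GG := starHom.comp (Subgroup.inclusion C.le)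
    have hφ : Function.Injective φ := starHom_injective.comp (Subgroup.inclusion_injective C.le)
    set Q := φ.range with hQ
    let eQ : P ≃* Q := MonoidHom.ofInjective hφ
    haveI : IsSimpleGroup Q := by
      haveI : Nontrivial Q := eQ.symm.toEquiv.nontrivial
      exact IsSimpleGroup.isSimpleGroup_of_surjective eQ.toMonoidHom eQ.surjective
    have hQna : ¬ IsMulCommutative Q := fun hc => C.nonabelian ⟨⟨fun a b => eQ.injective (by
      rw [map_mul, map_mul]; exact hc.is_comm.comm _ _)⟩⟩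
    have hQle : Q ≤ Sp4 F := by rintro _ ⟨a, rfl⟩; exact starHom_mem _
    by_cases hirr : ∀ W : Submodule F (Fin 4 → F), (∀ a ∈ Q, ∀ w ∈ W, (a : MM) *ᵥ w ∈ W) → W = ⊥ ∨ W = ⊤
    · exfalso
      obtain ⟨x, y, hxy⟩ := star_alt hpq hv
      obtain ⟨h, hh, k, hk⟩ := transvection_conj hQle inferInstance hQna hirr
        ⟨φ ⟨g, hg⟩, ⟨_, rfl⟩, fun e => hg1 (congrArg Subtype.val (hφ (e.trans (map_one φ).symm))), x, y, hxy⟩
      have hk1 : k = ⊤ := by
        by_contra hne
        obtain ⟨B, hB⟩ := realisable_of_star C.le hh (k := k)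
          fun a ha => ((hk (φ ⟨a, ha⟩)).1 ⟨⟨a, ha⟩, rfl⟩).2
        refine C.no_subfield k hne ⟨B, ?_⟩
        rintro _ ⟨a, ha, rfl⟩ i j
        exact hB a ha i j
      have hQtop : Q = Sp4 F := le_antisymm hQle fun a ha => (hk a).2 ⟨ha, fun i j => hk1 ▸ Subfield.mem_top _⟩
      exact C.proper (Subgroup.eq_of_le_of_card_ge C.le (by rw [Nat.card_congr eQ.toEquiv, hQtop]))
    push Not at hirr
    obtain ⟨W, hW, h0, h1⟩ := hirr
    obtain ⟨f, hf⟩ := exists_sl2 hQle hQna h0 h1 hW
    intro t ht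
    refine centraliser t fun h hc => ?_
    have hψ : Function.Injective (f.comp eQ.toMonoidHom) := hf.comp eQ.injective
    set ψ := f.comp eQ.toMonoidHom
    apply hψ
    have ht2 : ψ t * ψ t = 1 := by
      rw [← map_mul, ← sq, show t ^ 2 = 1 from orderOf_dvd_iff_pow_eq_one.1 (dvd_of_eq ht), map_one]
    have ht1 : ψ t ≠ 1 := fun e => by
      rw [hψ (e.trans (map_one ψ).symm), orderOf_one] at ht
      omega
    rw [map_one, map_pow]
    calc ψ h ^ 4 = (ψ h * ψ h) * (ψ h * ψ h) := by simp [pow_succ, mul_assoc]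
      _ = 1 := by rw [sl_two_cit ht2 ht1 (hc.map ψ), one_mul]
  push Not at halt
  intro t ht
  refine centraliser t fun h hc => ?_
  have ht1 : (t : GG) ≠ 1 := fun e => by
    rw [show t = 1 from Subtype.ext e, orderOf_one] at ht
    omega
  have ht2 : (t : GG) * (t : GG) = 1 := by
    have : t ^ 2 = 1 := orderOf_dvd_iff_pow_eq_one.1 (dvd_of_eq ht)
    rw [← Subgroup.coe_mul, ← sq, this, Subgroup.coe_one]
  rcases invol_cases (C.le t.2) ht2 ht1 with h3 | ⟨p, q, hpq, hv⟩ | h3
  · exact (C.no_transvection ⟨t, t.2, ht1, h3⟩).elim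
  · obtain ⟨v, hv'⟩ := halt t t.2 ht1 p q hpq
    exact (hv' (hv v)).elim
  · exact Subtype.ext (h3 h (C.le h.2) (congrArg Subtype.val hc))

/-- The socle is a Suzuki group over the field. -/
theorem Core4.iso_suzuki (C : Core4 P) (h4 : 4 ≤ Nat.card F)
    (hcard : ∀ f : ℕ, Nat.card F = 2 ^ f → ∃ r, Odd r ∧ Nat.card P ∣ 2 ^ (4 * f) * r) :
    ∃ m, 1 ≤ m ∧ Nat.card F = 2 ^ (2 * m + 1) ∧ Nonempty (P ≃* Cfsg.Lie.Sz F (2 ^ (m + 1))) := by
  classical
  haveI := C.simple
  haveI : Fintype F := Fintype.ofFinite F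
  haveI : Fact (Nat.Prime 2) := ⟨Nat.prime_two⟩
  rcases Cfsg.Lib.CITGroups.classification_of (Cfsg.Lie.IsoSuzuki P)
      (fun M hZ => Cfsg.Lib.SuzukiUnique.zassenhaus_iso hZ) C.cit C.nonabelian with
    ⟨K, _, _, hK, ⟨e⟩⟩ | ⟨K, _, _, hK, ⟨e⟩⟩ | ⟨K, _, _, m, hm, hK, ⟨e⟩⟩
  · exfalso
    rcases hK with h9 | ⟨n, hn⟩ | ⟨hp, k, hk⟩
    · exact C.not_psl_nine h4 h9 e
    · haveI : CharP K 2 := by
        obtain ⟨r, hr⟩ := CharP.exists K
        obtain ⟨j, hrp, hj⟩ := FiniteField.card K r
        have hd : r ∣ 2 ^ n := by rw [← hn, hj]; exact dvd_pow_self r j.pos.ne'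
        rwa [(Nat.prime_dvd_prime_iff_eq hrp Nat.prime_two).1 (hrp.dvd_of_dvd_pow hd)] at hr
      have hbot : Subgroup.center SL(2, K) = ⊥ := by
        rw [Subgroup.eq_bot_iff_forall]
        intro z hz
        obtain ⟨r, hr, hr'⟩ := Matrix.SpecialLinearGroup.mem_center_iff.1 hz
        rw [Fintype.card_fin] at hr
        have h1 : r = 1 := by
          have : (r + 1) ^ 2 = 0 := by rw [CharTwo.add_sq, hr, one_pow, CharTwo.add_self_eq_zero]
          exact CharTwo.add_eq_zero.1 (pow_eq_zero_iff two_ne_zero |>.1 this)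
        refine Subtype.ext ?_
        rw [← hr', h1, map_one]
        rfl
      let π : SL(2, K) →* ProjectiveSpecialLinearGroup (Fin 2) K := QuotientGroup.mk' _
      have hπ : Function.Bijective π :=
        ⟨(MonoidHom.ker_eq_bot_iff π).1 (by rw [QuotientGroup.ker_mk', hbot]), QuotientGroup.mk'_surjective _⟩
      exact C.not_sl_two h4 ((MulEquiv.ofBijective π hπ).trans e.symm)
    · rcases lt_or_ge (Fintype.card K) 17 with hlt | hge
      · have h2 := hp.two_le
        have hk5 : k ≤ 4 := by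
          by_contra h
          have : 2 ^ 5 ≤ 2 ^ k := Nat.pow_le_pow_right two_pos (by omega)
          omega
        have hcases : Fintype.card K = 2 ∨ Fintype.card K = 3 ∨ Fintype.card K = 5 ∨ Fintype.card K = 7 := by
          interval_cases k <;> rcases hk with hk | hk <;>
            first
              | omega
              | (exfalso; norm_num [show Fintype.card K = 9 by omega] at hp)
              | (exfalso; norm_num [show Fintype.card K = 15 by omega] at hp)
              | (exfalso; norm_num [show Fintype.card K = 1 by omega] at hp)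
        rcases hcases with h | h | h | h
        · obtain ⟨i⟩ : Nonempty (SL(2, K) ≃* Equiv.Perm (Fin 3)) := Cfsg.Lib.Classical.SmallPSL.sl_two h
          have h6 : Nat.card P ∣ 6 := by
            rw [Nat.card_congr e.toEquiv]
            refine (Subgroup.card_quotient_dvd_card _).trans (dvd_of_eq ?_)
            rw [Nat.card_congr i.toEquiv, Nat.card_eq_fintype_card, Fintype.card_perm, Fintype.card_fin]
            rfl
          refine C.small_exponents h4 e fun x => ?_
          have hx : orderOf x ∣ 6 := by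
            refine (orderOf_dvd_natCard x).trans ?_
            rwa [← Nat.card_congr e.toEquiv]
          exact small_two h i x
        · exact C.not_psl_three h4 h e
        · let K4 := GaloisField 2 2
          haveI : Fintype K4 := Fintype.ofFinite K4
          have h44 : Fintype.card K4 = 4 := by rw [← Nat.card_eq_fintype_card, GaloisField.card 2 2 two_ne_zero]; rfl
          obtain ⟨i⟩ := Cfsg.Lib.Classical.SmallPSL.psl_five (F := K) h
          obtain ⟨i'⟩ := Cfsg.Lib.Classical.SmallPSL.psl_four (F := K4) h44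
          have hbot : Subgroup.center SL(2, K4) = ⊥ := by
            rw [Subgroup.eq_bot_iff_forall]
            intro z hz
            obtain ⟨r, hr, hr'⟩ := Matrix.SpecialLinearGroup.mem_center_iff.1 hz
            rw [Fintype.card_fin] at hr
            have h1 : r = 1 := by
              have : (r + 1) ^ 2 = 0 := by rw [CharTwo.add_sq, hr, one_pow, CharTwo.add_self_eq_zero]
              exact CharTwo.add_eq_zero.1 (pow_eq_zero_iff two_ne_zero |>.1 this)
            refine Subtype.ext ?_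
            rw [← hr', h1, map_one]
            rfl
          let π : SL(2, K4) →* ProjectiveSpecialLinearGroup (Fin 2) K4 := QuotientGroup.mk' _
          have hπ : Function.Bijective π :=
            ⟨(MonoidHom.ker_eq_bot_iff π).1 (by rw [QuotientGroup.ker_mk', hbot]), QuotientGroup.mk'_surjective _⟩
          exact C.not_sl_two h4 ((((MulEquiv.ofBijective π hπ).trans i').trans i.symm).trans e.symm)
        · exact C.not_psl_seven h4 h e
      · exact C.not_large_prime hp hk hge e
  · exact (C.not_psl_three_four hK e).elim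
  have Q : Cfsg.Lib.Suz.Par K m := ⟨hm, hK⟩
  obtain ⟨f, -, hf⟩ := FiniteField.card F 2
  have hfN : Nat.card F = 2 ^ (f : ℕ) := by rw [Nat.card_eq_fintype_card, hf]
  have htr : ∀ g ∈ P, tr4 g ^ 2 ^ (2 * m + 1) = tr4 g := fun g hg => by
    rcases Cfsg.Lib.Suz.lie_pow_card_conj Q (e ⟨g, hg⟩) with h | ⟨c, hc⟩
    · rw [← map_pow, MulEquiv.map_eq_one_iff] at h
      rw [tr4_unipotent (k := 2) (show g ^ 2 ^ 2 = 1 from congrArg Subtype.val h),
        zero_pow (pow_ne_zero _ two_ne_zero)]
    · obtain ⟨c', rfl⟩ := e.surjective c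
      rw [← map_inv, ← map_mul, ← map_mul, ← map_pow, hK] at hc
      exact tr4_fixed (C.le hg) (c := (c' : GG)) (Or.inl (congrArg Subtype.val (e.injective hc)))
  have hfn : (f : ℕ) ∣ 2 * m + 1 := C.dvd_of_traces hfN htr
  obtain ⟨r, hr, hdvd⟩ := hcard f hfN
  have hle : 2 * m + 1 ≤ 2 * (f : ℕ) := by
    have h1 : 2 ^ (2 * (2 * m + 1)) ∣ 2 ^ (4 * (f : ℕ)) * r := by
      refine dvd_trans ?_ hdvd
      rw [Nat.card_congr e.toEquiv, (Cfsg.Lib.Suz.lie_structure Q).1, ← pow_mul, mul_comm (2 * m + 1) 2, mul_assoc]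
      exact dvd_mul_right _ _
    have h2 := (Nat.pow_dvd_pow_iff_le_right (by norm_num : 1 < 2)).1
      (((Nat.coprime_two_left.2 hr).pow_left _).dvd_of_dvd_mul_right h1)
    omega
  have heq : (f : ℕ) = 2 * m + 1 := by
    obtain ⟨d, hd⟩ := hfn
    rcases d with _ | _ | _ | d
    · omega
    · omega
    · omega
    · have := f.pos; nlinarith
  refine ⟨m, hm, by rw [hfN, heq], ?_⟩
  let σ : K ≃+* F := FiniteField.ringEquivOfCardEq (by rw [hK, hf, heq])
  exact (szCongr σ _).map e.trans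
where
  small_two {K : Type} [Field K] [Fintype K] (h : Fintype.card K = 2) (i : SL(2, K) ≃* Equiv.Perm (Fin 3))
      (x : ProjectiveSpecialLinearGroup (Fin 2) K) : x ^ 3 = 1 ∨ x ^ 4 = 1 ∨ ∃ c, c * x * c⁻¹ = x * x := by
    have key : ∀ y : Equiv.Perm (Fin 3), y ^ 3 = 1 ∨ y ^ 4 = 1 := by decide +kernel
    obtain ⟨y, rfl⟩ := QuotientGroup.mk_surjective x
    rcases key (i y) with h' | h' <;> rw [← map_pow, MulEquiv.map_eq_one_iff] at h'
    · exact Or.inl (by rw [← QuotientGroup.mk_pow, h', QuotientGroup.mk_one])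
    · exact Or.inr (Or.inl (by rw [← QuotientGroup.mk_pow, h', QuotientGroup.mk_one]))
  szCongr {K : Type} [Field K] (σ : K ≃+* F) (n : ℕ) : Nonempty (Cfsg.Lie.Sz K n ≃* Cfsg.Lie.Sz F n) := by
    let Φ : GL (Fin 4) K ≃* GL (Fin 4) F :=
      Units.mapEquiv (RingEquiv.mapMatrix σ : Matrix (Fin 4) (Fin 4) K ≃+* Matrix (Fin 4) (Fin 4) F).toMulEquiv
    refine ⟨(Cfsg.Lie.Sz K n).equivMapOfInjective Φ.toMonoidHom Φ.injective |>.trans (MulEquiv.subgroupCongr ?_)⟩
    rw [Cfsg.Lie.Sz, Cfsg.Lie.Sz, MonoidHom.map_closure]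
    congr 1
    ext g
    have hent : ∀ (x : GL (Fin 4) K) i j, ((Φ x : GL (Fin 4) F) : MM) i j = σ ((x : Matrix (Fin 4) (Fin 4) K) i j) :=
      fun _ _ _ => rfl
    have hiff : ∀ x : GL (Fin 4) K, (Φ x ∈ Sp4 F ∧ star4 ((Φ x : GL (Fin 4) F) : MM) = ((Φ x : GL (Fin 4) F) : MM).map
        (fun a => a ^ n)) ↔ (x ∈ Sp4 K ∧ star4 (x : Matrix (Fin 4) (Fin 4) K) = (x : Matrix (Fin 4) (Fin 4) K).map
        (fun a => a ^ n)) := fun x => by
      refine and_congr ?_ ?_
      · constructor
        · intro h u v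
          have h' := h (fun i => σ (u i)) (fun i => σ (v i))
          apply σ.injective
          simpa [altForm4, Matrix.mulVec, dotProduct, hent, map_sum] using h'
        · intro h u v
          have h' := congrArg σ (h (fun i => σ.symm (u i)) (fun i => σ.symm (v i)))
          simpa [altForm4, Matrix.mulVec, dotProduct, hent, map_sum] using h'
      · rw [← Matrix.ext_iff, ← Matrix.ext_iff]
        refine forall₂_congr fun i j => ?_
        simp only [star4, Matrix.of_apply, Matrix.map_apply, hent, ← map_mul, ← map_sub, ← map_pow, σ.injective.eq_iff]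
    constructor
    · rintro ⟨x, hx, rfl⟩
      exact (hiff x).2 hx
    · intro hg
      exact ⟨Φ.symm g, (hiff _).1 (by rw [Φ.apply_symm_apply]; exact hg), Φ.apply_symm_apply g⟩

end Cfsg.Lib.SpFourResidual
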