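import Cfsg.Agent.SpFourResidual.Invol
import Cfsg.Agent.SpFourResidual.LTwoModel

/-!
A reducible simple subgroup of the symplectic group in four dimensions embeds in the special linear group in two.
-/

set_option autoImplicit false
set_option linter.unusedSectionVars false
set_option linter.style.haveILetI false

namespace Cfsg.Lib.SpFourResidual

open Matrix Cfsg.Lie
open scoped MatrixGroups

universe u

variable {F : Type u} [Field F] [CharP F 2] [Finite F]

local notation "MM" => Matrix (Fin 4) (Fin 4) F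
local notation "GG" => GL (Fin 4) F
local notation "VV" => (Fin 4 → F)

theorem cube_exponent {G : Type*} [Group G] [Finite G] [IsSimpleGroup G] (hna : ¬ IsMulCommutative G)
    (h : ∀ g : G, g ^ 4 = 1) : False := by
  haveI : Fact (Nat.Prime 2) := ⟨Nat.prime_two⟩
  have hp : IsPGroup 2 G := fun g => ⟨2, h g⟩
  haveI : Nontrivial (Subgroup.center G) := hp.center_nontrivial
  rcases IsSimpleGroup.eq_bot_or_eq_top_of_normal (Subgroup.center G) inferInstance with e | e
  · exact (Subgroup.nontrivial_iff_ne_bot _).1 inferInstance e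
  · exact hna ⟨⟨fun a b => ((Subgroup.mem_center_iff.1 (e ▸ Subgroup.mem_top a : a ∈ Subgroup.center G)) b).symm⟩⟩

theorem no_perfect_char {G : Type*} [Group G] [IsSimpleGroup G] (hna : ¬ IsMulCommutative G) {A : Type*} [CommGroup A]
    (f : G →* A) (g : G) : f g = 1 := by
  rcases IsSimpleGroup.eq_bot_or_eq_top_of_normal f.ker inferInstance with e | e
  · exact absurd ⟨⟨fun a b => (MonoidHom.ker_eq_bot_iff f).1 e (by rw [map_mul, map_mul, mul_comm])⟩⟩ hna
  · exact MonoidHom.mem_ker.1 (e ▸ Subgroup.mem_top g)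

section

variable {Q : Subgroup (GL (Fin 4) F)} {e0 e1 e2 e3 : Fin 4 → F}

/-- The action on an invariant plane or plane section with two coordinate functionals. -/
def blockMat (a b a' b' : Fin 4 → F) (g : GL (Fin 4) F) : Matrix (Fin 2) (Fin 2) F :=
  !![altForm4 ((g : Matrix (Fin 4) (Fin 4) F) *ᵥ a) a', altForm4 ((g : Matrix (Fin 4) (Fin 4) F) *ᵥ b) a';
     altForm4 ((g : Matrix (Fin 4) (Fin 4) F) *ᵥ a) b', altForm4 ((g : Matrix (Fin 4) (Fin 4) F) *ᵥ b) b']

theorem block_mul {a b a' b' : VV} {g h : GG}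
    (ha : ∃ r, (h : MM) *ᵥ a = altForm4 ((h : MM) *ᵥ a) a' • a + altForm4 ((h : MM) *ᵥ a) b' • b + r ∧
      altForm4 ((g : MM) *ᵥ r) a' = 0 ∧ altForm4 ((g : MM) *ᵥ r) b' = 0)
    (hb : ∃ r, (h : MM) *ᵥ b = altForm4 ((h : MM) *ᵥ b) a' • a + altForm4 ((h : MM) *ᵥ b) b' • b + r ∧
      altForm4 ((g : MM) *ᵥ r) a' = 0 ∧ altForm4 ((g : MM) *ᵥ r) b' = 0) :
    blockMat a b a' b' (g * h) = blockMat a b a' b' g * blockMat a b a' b' h := by
  obtain ⟨r, hr, r1, r2⟩ := ha
  obtain ⟨s, hs, s1, s2⟩ := hb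
  have ea : ((g : MM) * (h : MM)) *ᵥ a = altForm4 ((h : MM) *ᵥ a) a' • ((g : MM) *ᵥ a) +
      altForm4 ((h : MM) *ᵥ a) b' • ((g : MM) *ᵥ b) + (g : MM) *ᵥ r := by
    conv_lhs => rw [← mulVec_mulVec, hr]
    simp only [mulVec_add, mulVec_smul]
  have eb : ((g : MM) * (h : MM)) *ᵥ b = altForm4 ((h : MM) *ᵥ b) a' • ((g : MM) *ᵥ a) +
      altForm4 ((h : MM) *ᵥ b) b' • ((g : MM) *ᵥ b) + (g : MM) *ᵥ s := by
    conv_lhs => rw [← mulVec_mulVec, hs]
    simp only [mulVec_add, mulVec_smul]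
  ext i j
  fin_cases i <;> fin_cases j <;>
    simp [blockMat, ea, eb, alt_add_left, alt_smul_left, r1, r2, s1, s2, Matrix.mul_apply, Fin.sum_univ_two] <;> ring

/-- A multiplicative block with unit determinant gives an embedding once its kernel is trivial. -/
theorem embed_of_block (hna : ¬ IsMulCommutative Q) [IsSimpleGroup Q] {a b a' b' : VV}
    (h1 : blockMat a b a' b' (1 : GG) = 1)
    (hmul : ∀ g ∈ Q, ∀ h ∈ Q, blockMat a b a' b' (g * h) = blockMat a b a' b' g * blockMat a b a' b' h) :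
    (∃ f : Q →* SL(2, F), Function.Injective f) ∨ ∀ g ∈ Q, blockMat a b a' b' g = 1 := by
  let f : Q →* Matrix (Fin 2) (Fin 2) F :=
    { toFun := fun g => blockMat a b a' b' g, map_one' := h1, map_mul' := fun g h => hmul g g.2 h h.2 }
  have hd : ∀ g : Q, (f g).det = 1 := fun g => by
    have := no_perfect_char hna ((Units.map (Matrix.detMonoidHom (n := Fin 2) (R := F))).comp f.toHomUnits) g
    simpa [Units.ext_iff] using this
  let f' : Q →* SL(2, F) :=
    { toFun := fun g => ⟨f g, hd g⟩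
      map_one' := Subtype.ext f.map_one
      map_mul' := fun g h => Subtype.ext (f.map_mul g h) }
  rcases IsSimpleGroup.eq_bot_or_eq_top_of_normal f'.ker inferInstance with e | e
  · exact Or.inl ⟨f', (MonoidHom.ker_eq_bot_iff f').1 e⟩
  · exact Or.inr fun g hg => congrArg Subtype.val (MonoidHom.mem_ker.1 (e ▸ Subgroup.mem_top (⟨g, hg⟩ : Q)) : f' ⟨g, hg⟩ = 1)

variable (hQ : Q ≤ Sp4 F) (B : Hyp e0 e1 e2 e3)
include hQ B

/-- The middle section of an invariant line. -/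
theorem embed_point [IsSimpleGroup Q] (hna : ¬ IsMulCommutative Q)
    (h0 : ∀ g ∈ Q, ∃ c : F, (g : MM) *ᵥ e0 = c • e0) : ∃ f : Q →* SL(2, F), Function.Injective f := by
  haveI : Finite Q := inferInstance
  let χ : Q →* F :=
    { toFun := fun g => altForm4 ((g : GG).val *ᵥ e0) e3
      map_one' := by simp [B.h03]
      map_mul' := fun g h => by
        obtain ⟨c, hc⟩ := h0 h h.2
        simp only [Subgroup.coe_mul, Units.val_mul, ← mulVec_mulVec, hc, mulVec_smul, alt_smul_left, B.h03]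
        ring }
  have fix0 : ∀ g ∈ Q, (g : MM) *ᵥ e0 = e0 := fun g hg => by
    obtain ⟨c, hc⟩ := h0 g hg
    have h1 := congrArg Units.val (no_perfect_char hna χ.toHomUnits ⟨g, hg⟩)
    have : altForm4 ((g : MM) *ᵥ e0) e3 = 1 := h1
    rw [hc, alt_smul_left, B.h03, mul_one] at this
    rw [hc, this, one_smul]
  have perp : ∀ g ∈ Q, ∀ v, altForm4 ((g : MM) *ᵥ v) e0 = altForm4 v e0 := fun g hg v => by
    conv_lhs => rw [← fix0 g hg, mem_Sp4.1 (hQ hg)]
  have h10 : altForm4 e1 e0 = 0 := by rw [alt_comm]; exact B.h01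
  have h20 : altForm4 e2 e0 = 0 := by rw [alt_comm]; exact B.h02
  have hsplit : ∀ g ∈ Q, ∀ h ∈ Q, ∀ v, altForm4 v e0 = 0 →
      ∃ r, (h : MM) *ᵥ v = altForm4 ((h : MM) *ᵥ v) e2 • e1 + altForm4 ((h : MM) *ᵥ v) e1 • e2 + r ∧
        altForm4 ((g : MM) *ᵥ r) e2 = 0 ∧ altForm4 ((g : MM) *ᵥ r) e1 = 0 := fun g hg h hh v hv => by
    refine ⟨altForm4 ((h : MM) *ᵥ v) e3 • e0, ?_, ?_, ?_⟩
    · conv_lhs => rw [B.expand ((h : MM) *ᵥ v), perp h hh, hv, zero_smul, add_zero]
      abel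
    · rw [mulVec_smul, fix0 g hg, alt_smul_left, B.h02, mul_zero]
    · rw [mulVec_smul, fix0 g hg, alt_smul_left, B.h01, mul_zero]
  rcases embed_of_block hna (a := e1) (b := e2) (a' := e2) (b' := e1)
      (by ext i j; fin_cases i <;> fin_cases j <;> simp [blockMat, alt_self, B.h12, alt_comm e2 e1])
      (fun g hg h hh => block_mul (hsplit g hg h hh e1 h10) (hsplit g hg h hh e2 h20)) with h | h
  · exact h
  exfalso
  refine cube_exponent hna fun g => Subtype.ext ?_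
  have hb := h g g.2
  have u1 : ((g : GG) : MM) *ᵥ e1 = altForm4 (((g : GG) : MM) *ᵥ e1) e3 • e0 + e1 := by
    have c1 : altForm4 (((g : GG) : MM) *ᵥ e1) e2 = 1 := by simpa [blockMat] using congrFun (congrFun hb 0) 0
    have c2 : altForm4 (((g : GG) : MM) *ᵥ e1) e1 = 0 := by simpa [blockMat] using congrFun (congrFun hb 1) 0
    conv_lhs => rw [B.expand (((g : GG) : MM) *ᵥ e1), perp g g.2, h10, c1, c2]
    simp
  have u2 : ((g : GG) : MM) *ᵥ e2 = altForm4 (((g : GG) : MM) *ᵥ e2) e3 • e0 + e2 := by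
    have c1 : altForm4 (((g : GG) : MM) *ᵥ e2) e2 = 0 := by simpa [blockMat] using congrFun (congrFun hb 0) 1
    have c2 : altForm4 (((g : GG) : MM) *ᵥ e2) e1 = 1 := by simpa [blockMat] using congrFun (congrFun hb 1) 1
    conv_lhs => rw [B.expand (((g : GG) : MM) *ᵥ e2), perp g g.2, h20, c1, c2]
    simp
  have u3 : altForm4 (((g : GG) : MM) *ᵥ e3) e0 = 1 := by rw [perp g g.2, alt_comm, B.h03]
  set G : MM := ((g : GG) : MM) with hG
  -- a unipotent matrix of class at most three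
  have n0 : G *ᵥ e0 + e0 = 0 := by rw [hG, fix0 g g.2, vadd_same]
  have nsq : ∀ v, G *ᵥ (G *ᵥ v) + v = (G *ᵥ (G *ᵥ v + v)) + (G *ᵥ v + v) := fun v => by
    rw [mulVec_add, show G *ᵥ (G *ᵥ v) + G *ᵥ v + (G *ᵥ v + v) = G *ᵥ (G *ᵥ v) + v + (G *ᵥ v + G *ᵥ v) by abel,
      vadd_same, add_zero]
  have nmem : ∀ v, ∃ α β γ : F, G *ᵥ v + v = α • e0 + β • e1 + γ • e2 := fun v => by
    refine ⟨altForm4 (G *ᵥ v + v) e3, altForm4 (G *ᵥ v + v) e2, altForm4 (G *ᵥ v + v) e1,
      (B.expand (G *ᵥ v + v)).trans ?_⟩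
    rw [show altForm4 (G *ᵥ v + v) e0 = 0 by rw [alt_add_left, hG, perp g g.2, CharTwo.add_self_eq_zero],
      zero_smul, add_zero]
  have two : ∀ v, ∃ c : F, G *ᵥ (G *ᵥ v) + v = c • e0 := fun v => by
    obtain ⟨α, β, γ, e⟩ := nmem v
    refine ⟨β * altForm4 (G *ᵥ e1) e3 + γ * altForm4 (G *ᵥ e2) e3, ?_⟩
    rw [nsq, e, mulVec_add, mulVec_add, mulVec_smul, mulVec_smul, mulVec_smul, hG, fix0 g g.2, ← hG]
    conv_lhs => rw [u1, u2]
    rw [show α • e0 + β • (altForm4 (G *ᵥ e1) e3 • e0 + e1) + γ • (altForm4 (G *ᵥ e2) e3 • e0 + e2) +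
      (α • e0 + β • e1 + γ • e2) = (β * altForm4 (G *ᵥ e1) e3 + γ * altForm4 (G *ᵥ e2) e3) • e0 +
      ((α • e0 + α • e0) + (β • e1 + β • e1) + (γ • e2 + γ • e2)) by module, vadd_same (α • e0), vadd_same (β • e1),
      vadd_same (γ • e2), add_zero, add_zero, add_zero]
  apply Units.ext
  apply Matrix.toLin'.injective
  refine LinearMap.ext fun v => ?_
  rw [SubmonoidClass.coe_pow, Units.val_pow_eq_pow_val, ← hG, Matrix.toLin'_apply, Matrix.toLin'_apply,
    Subgroup.coe_one, Units.val_one, one_mulVec]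
  obtain ⟨c, hc⟩ := two v
  have h4 : G *ᵥ (G *ᵥ (G *ᵥ (G *ᵥ v))) + G *ᵥ (G *ᵥ v) = c • e0 := by
    have := congrArg (fun w => G *ᵥ (G *ᵥ w)) hc
    simp only [mulVec_add, mulVec_smul] at this
    rw [hG, fix0 g g.2, fix0 g g.2] at this
    exact this
  calc G ^ 4 *ᵥ v = G *ᵥ (G *ᵥ (G *ᵥ (G *ᵥ v))) := by simp [pow_succ, mulVec_mulVec, mul_assoc]
    _ = (G *ᵥ (G *ᵥ (G *ᵥ (G *ᵥ v))) + G *ᵥ (G *ᵥ v)) + (G *ᵥ (G *ᵥ v) + v) + v := by
        rw [show (G *ᵥ (G *ᵥ (G *ᵥ (G *ᵥ v))) + G *ᵥ (G *ᵥ v)) + (G *ᵥ (G *ᵥ v) + v) + v =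
          G *ᵥ (G *ᵥ (G *ᵥ (G *ᵥ v))) + ((G *ᵥ (G *ᵥ v) + G *ᵥ (G *ᵥ v)) + (v + v)) by abel, vadd_same, vadd_same,
          add_zero, add_zero]
    _ = v := by rw [h4, hc, vadd_same, zero_add]

/-- An invariant totally isotropic plane. -/
theorem embed_singular [IsSimpleGroup Q] (hna : ¬ IsMulCommutative Q)
    (h0 : ∀ g ∈ Q, ∀ v ∈ ({e0, e1} : Set VV), ∃ α β : F, (g : MM) *ᵥ v = α • e0 + β • e1) :
    ∃ f : Q →* SL(2, F), Function.Injective f := by
  have h10 : altForm4 e1 e0 = 0 := by rw [alt_comm]; exact B.h01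
  have perp : ∀ g ∈ Q, ∀ v ∈ ({e0, e1} : Set VV), altForm4 ((g : MM) *ᵥ v) e0 = 0 ∧ altForm4 ((g : MM) *ᵥ v) e1 = 0 :=
    fun g hg v hv => by
      obtain ⟨α, β, e⟩ := h0 g hg v hv
      rw [e]
      constructor <;> simp [alt_add_left, alt_smul_left, alt_self, B.h01, h10]
  have hsplit : ∀ g h : GG, h ∈ Q → ∀ v ∈ ({e0, e1} : Set VV), ∃ r,
      (h : MM) *ᵥ v = altForm4 ((h : MM) *ᵥ v) e3 • e0 + altForm4 ((h : MM) *ᵥ v) e2 • e1 + r ∧
        altForm4 ((g : MM) *ᵥ r) e3 = 0 ∧ altForm4 ((g : MM) *ᵥ r) e2 = 0 := fun g h hh v hv => by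
    refine ⟨0, ?_, by simp [alt_zero_left], by simp [alt_zero_left]⟩
    conv_lhs => rw [B.expand ((h : MM) *ᵥ v), (perp h hh v hv).1, (perp h hh v hv).2]
    simp
  rcases embed_of_block hna (a := e0) (b := e1) (a' := e3) (b' := e2)
      (by ext i j; fin_cases i <;> fin_cases j <;> simp [blockMat, B.h03, B.h12, B.h02, alt_comm e1 e3, B.h31])
      (fun g hg h hh => block_mul (hsplit g h hh e0 (by simp)) (hsplit g h hh e1 (by simp))) with h | h
  · exact h
  refine embed_point hQ B hna fun g hg => ⟨1, ?_⟩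
  have hb := h g hg
  have c1 : altForm4 ((g : MM) *ᵥ e0) e3 = 1 := by simpa [blockMat] using congrFun (congrFun hb 0) 0
  have c2 : altForm4 ((g : MM) *ᵥ e0) e2 = 0 := by simpa [blockMat] using congrFun (congrFun hb 1) 0
  conv_lhs => rw [B.expand ((g : MM) *ᵥ e0), (perp g hg e0 (by simp)).1, (perp g hg e0 (by simp)).2, c1, c2]
  simp

/-- An invariant nondegenerate plane. -/
theorem embed_nondeg [IsSimpleGroup Q] (hna : ¬ IsMulCommutative Q)
    (h0 : ∀ g ∈ Q, ∀ v ∈ ({e0, e3} : Set VV), ∃ α β : F, (g : MM) *ᵥ v = α • e0 + β • e3) :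
    ∃ f : Q →* SL(2, F), Function.Injective f := by
  have h30 : altForm4 e3 e0 = 1 := by rw [alt_comm]; exact B.h03
  have hsplit : ∀ g h : GG, h ∈ Q → ∀ v ∈ ({e0, e3} : Set VV), ∃ r,
      (h : MM) *ᵥ v = altForm4 ((h : MM) *ᵥ v) e3 • e0 + altForm4 ((h : MM) *ᵥ v) e0 • e3 + r ∧
        altForm4 ((g : MM) *ᵥ r) e3 = 0 ∧ altForm4 ((g : MM) *ᵥ r) e0 = 0 := fun g h hh v hv => by
    refine ⟨0, ?_, by simp [alt_zero_left], by simp [alt_zero_left]⟩
    obtain ⟨α, β, e⟩ := h0 h hh v hv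
    rw [e]
    simp [alt_add_left, alt_smul_left, alt_self, B.h03, h30]
  rcases embed_of_block hna (a := e0) (b := e3) (a' := e3) (b' := e0)
      (by ext i j; fin_cases i <;> fin_cases j <;> simp [blockMat, B.h03, h30, alt_self])
      (fun g hg h hh => block_mul (hsplit g h hh e0 (by simp)) (hsplit g h hh e3 (by simp))) with h | h
  · exact h
  have fix : ∀ g ∈ Q, (g : MM) *ᵥ e0 = e0 ∧ (g : MM) *ᵥ e3 = e3 := fun g hg => by
    have hb := h g hg
    obtain ⟨α, β, e⟩ := h0 g hg e0 (by simp)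
    obtain ⟨γ, δ, e'⟩ := h0 g hg e3 (by simp)
    have c1 : altForm4 ((g : MM) *ᵥ e0) e3 = 1 := by simpa [blockMat] using congrFun (congrFun hb 0) 0
    have c2 : altForm4 ((g : MM) *ᵥ e0) e0 = 0 := by simpa [blockMat] using congrFun (congrFun hb 1) 0
    have c3 : altForm4 ((g : MM) *ᵥ e3) e3 = 0 := by simpa [blockMat] using congrFun (congrFun hb 0) 1
    have c4 : altForm4 ((g : MM) *ᵥ e3) e0 = 1 := by simpa [blockMat] using congrFun (congrFun hb 1) 1
    rw [e, alt_add_left, alt_smul_left, alt_smul_left, B.h03, alt_self, mul_one, mul_zero, add_zero] at c1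
    rw [e, alt_add_left, alt_smul_left, alt_smul_left, alt_self, h30, mul_one, mul_zero, zero_add] at c2
    rw [e', alt_add_left, alt_smul_left, alt_smul_left, B.h03, alt_self, mul_one, mul_zero, add_zero] at c3
    rw [e', alt_add_left, alt_smul_left, alt_smul_left, alt_self, h30, mul_one, mul_zero, zero_add] at c4
    exact ⟨by rw [e, c1, c2, one_smul, zero_smul, add_zero], by rw [e', c3, c4, one_smul, zero_smul, zero_add]⟩
  exact embed_point hQ B hna fun g hg => ⟨1, by rw [(fix g hg).1, one_smul]⟩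

end

/-- Completion of a hyperbolic pair. -/
theorem extend_pair {a u : VV} (h : altForm4 a u = 1) : ∃ x y, Hyp a x y u := by
  haveI : Fintype F := Fintype.ofFinite F
  obtain ⟨x, hx, hl⟩ := exists_ne_zero_kill (n := 2) (by norm_num) (fun v => ![altForm4 v a, altForm4 v u])
    fun v v' => funext fun i => by fin_cases i <;> simp [alt_add_left]
  have hxa : altForm4 x a = 0 := by simpa using congrFun hl 0
  have hxu : altForm4 x u = 0 := by simpa using congrFun hl 1
  obtain ⟨y, hy⟩ := exists_dual hx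
  refine ⟨x, y + (altForm4 y u • a + altForm4 y a • u), h, ?_, by rw [alt_comm]; exact hxa, ?_,
    by rw [alt_comm]; exact hxu, ?_⟩
  · simp [alt_add_right, alt_smul_right, hy, hxa, hxu]
  · simp [alt_add_right, alt_smul_right, alt_self, h, alt_comm a y, CharTwo.add_self_eq_zero]
  · simp [alt_add_right, alt_smul_right, alt_self, alt_comm u a, h, alt_comm u y, CharTwo.add_self_eq_zero]

/-- A reducible simple subgroup embeds in the special linear group in two dimensions. -/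
theorem exists_sl2 {Q : Subgroup (GL (Fin 4) F)} (hQ : Q ≤ Sp4 F) [IsSimpleGroup Q] (hna : ¬ IsMulCommutative Q)
    {W : Submodule F (Fin 4 → F)} (h0 : W ≠ ⊥) (h1 : W ≠ ⊤) (hW : ∀ g ∈ Q, ∀ w ∈ W, (g : MM) *ᵥ w ∈ W) :
    ∃ f : Q →* SL(2, F), Function.Injective f := by
  by_cases hR : ∃ v ∈ W, v ≠ 0 ∧ ∀ y ∈ W, altForm4 v y = 0
  · obtain ⟨v, hvW, hv0, hvR⟩ := hR
    have hRinv : ∀ g ∈ Q, ∀ w, (w ∈ W ∧ ∀ y ∈ W, altForm4 w y = 0) →
        ((g : MM) *ᵥ w ∈ W ∧ ∀ y ∈ W, altForm4 ((g : MM) *ᵥ w) y = 0) := fun g hg w hw => by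
      refine ⟨hW g hg w hw.1, fun y hy => ?_⟩
      have hy' : ((g⁻¹ : GG) : MM) *ᵥ y ∈ W := hW _ (Q.inv_mem hg) y hy
      have e := mem_Sp4.1 (hQ hg) w (((g⁻¹ : GG) : MM) *ᵥ y)
      rw [mulVec_mulVec, ← Units.val_mul, mul_inv_cancel, Units.val_one, one_mulVec, hw.2 _ hy'] at e
      exact e
    obtain ⟨v', hv'⟩ := exists_dual hv0
    by_cases hline : ∀ w, w ∈ W → (∀ y ∈ W, altForm4 w y = 0) → ∃ c : F, w = c • v
    · obtain ⟨x, y, B⟩ := extend_pair hv'
      exact embed_point hQ B hna fun g hg =>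
        hline _ (hRinv g hg v ⟨hvW, hvR⟩).1 (hRinv g hg v ⟨hvW, hvR⟩).2
    push Not at hline
    obtain ⟨w, hwW, hwR, hw⟩ := hline
    set w1 := w + altForm4 w v' • v with hw1
    have hwv : altForm4 w v = 0 := hwR v hvW
    have hw10 : w1 ≠ 0 := fun e => hw (altForm4 w v') (funext fun i => CharTwo.add_eq_zero.1 (congrFun e i))
    obtain ⟨x', hx'⟩ := exists_dual hw10
    have a1 : altForm4 w1 v = 0 := by simp [hw1, alt_add_left, alt_smul_left, hwv, alt_self]
    have a2 : altForm4 w1 v' = 0 := by simp [hw1, alt_add_left, alt_smul_left, hv', CharTwo.add_self_eq_zero]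
    set x := x' + (altForm4 x' v' • v + altForm4 x' v • v') with hx
    have B : Hyp v w1 x v' := ⟨hv', by simp [hx, alt_add_right, alt_smul_right, hx', a1, a2],
      by rw [alt_comm]; exact a1,
      by simp [hx, alt_add_right, alt_smul_right, alt_self, hv', alt_comm v x', CharTwo.add_self_eq_zero],
      by rw [alt_comm]; exact a2,
      by simp [hx, alt_add_right, alt_smul_right, alt_self, alt_comm v' v, hv', alt_comm v' x', CharTwo.add_self_eq_zero]⟩
    have hw1W : w1 ∈ W ∧ ∀ y ∈ W, altForm4 w1 y = 0 := ⟨W.add_mem hwW (W.smul_mem _ hvW), fun y hy => by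
      simp [hw1, alt_add_left, alt_smul_left, hwR y hy, hvR y hy]⟩
    refine embed_singular hQ B hna fun g hg u hu => ?_
    obtain ⟨m1, m2⟩ := hRinv g hg u (by rcases hu with rfl | rfl; exacts [⟨hvW, hvR⟩, hw1W])
    refine ⟨altForm4 ((g : MM) *ᵥ u) v', altForm4 ((g : MM) *ᵥ u) x, ?_⟩
    conv_lhs => rw [B.expand ((g : MM) *ᵥ u), m2 v hvW, m2 w1 hw1W.1]
    simp
  push Not at hR
  obtain ⟨v, hvW, hv0⟩ := (Submodule.ne_bot_iff W).1 h0
  obtain ⟨z, hzW, hz⟩ := hR v hvW hv0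
  set v' := (altForm4 v z)⁻¹ • z with hv'd
  have hv' : altForm4 v v' = 1 := by rw [hv'd, alt_smul_right, inv_mul_cancel₀ hz]
  have hv'W : v' ∈ W := W.smul_mem _ hzW
  by_cases hplane : ∀ y ∈ W, y = altForm4 y v' • v + altForm4 y v • v'
  · obtain ⟨x, y, B⟩ := extend_pair hv'
    exact embed_nondeg hQ B hna fun g hg u hu =>
      ⟨_, _, hplane _ (hW g hg u (by rcases hu with rfl | rfl; exacts [hvW, hv'W]))⟩
  exfalso
  push Not at hplane
  obtain ⟨y, hyW, hy⟩ := hplane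
  set w := y + (altForm4 y v' • v + altForm4 y v • v') with hwd
  have hwW : w ∈ W := W.add_mem hyW (W.add_mem (W.smul_mem _ hvW) (W.smul_mem _ hv'W))
  have a1 : altForm4 w v = 0 := by
    simp [hwd, alt_add_left, alt_smul_left, alt_self, alt_comm v' v, hv', CharTwo.add_self_eq_zero]
  have a2 : altForm4 w v' = 0 := by
    simp [hwd, alt_add_left, alt_smul_left, alt_self, hv', CharTwo.add_self_eq_zero]
  have hw0 : w ≠ 0 := fun e => hy (funext fun i => CharTwo.add_eq_zero.1 (congrFun e i))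
  obtain ⟨z', hz'W, hz'⟩ := hR w hwW hw0
  set x' := (altForm4 w z')⁻¹ • z' with hx'd
  have hx' : altForm4 w x' = 1 := by rw [hx'd, alt_smul_right, inv_mul_cancel₀ hz']
  set x := x' + (altForm4 x' v' • v + altForm4 x' v • v') with hx
  have hxW : x ∈ W := W.add_mem (W.smul_mem _ hz'W) (W.add_mem (W.smul_mem _ hvW) (W.smul_mem _ hv'W))
  have B : Hyp v w x v' := ⟨hv', by simp [hx, alt_add_right, alt_smul_right, hx', a1, a2],
    by rw [alt_comm]; exact a1,
    by simp [hx, alt_add_right, alt_smul_right, alt_self, hv', alt_comm v x', CharTwo.add_self_eq_zero],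
    by rw [alt_comm]; exact a2,
    by simp [hx, alt_add_right, alt_smul_right, alt_self, alt_comm v' v, hv', alt_comm v' x', CharTwo.add_self_eq_zero]⟩
  refine h1 (Submodule.eq_top_iff'.2 fun u => ?_)
  rw [B.expand u]
  exact W.add_mem (W.add_mem (W.add_mem (W.smul_mem _ hvW) (W.smul_mem _ hwW)) (W.smul_mem _ hxW)) (W.smul_mem _ hv'W)

/-- In the special linear group in two dimensions an involution has a centraliser of exponent two. -/
theorem sl_two_cit {t h : SL(2, F)} (ht : t * t = 1) (ht1 : t ≠ 1) (hc : Commute h t) : h * h = 1 := by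
  have h2 : (2 : F) = 0 := CharP.cast_eq_zero F 2
  have e := congrArg Subtype.val ht
  have ec := congrArg Subtype.val hc.eq
  have d := t.2
  have dh := h.2
  set T := t.1 with hT
  set H := h.1 with hH
  rw [Matrix.det_fin_two] at d dh
  have e00 := congrFun (congrFun e 0) 0
  have e01 := congrFun (congrFun e 0) 1
  have e10 := congrFun (congrFun e 1) 0
  have c00 := congrFun (congrFun ec 0) 0
  have c01 := congrFun (congrFun ec 0) 1
  have c10 := congrFun (congrFun ec 1) 0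
  simp [Matrix.SpecialLinearGroup.coe_mul, Matrix.mul_apply, Fin.sum_univ_two, ← hT, ← hH] at e00 e01 e10 c00 c01 c10
  have htr : T 1 1 = T 0 0 := by
    by_contra hne
    have hs : T 0 0 + T 1 1 ≠ 0 := fun z => hne (CharTwo.add_eq_zero.1 z).symm
    have hb : T 0 1 = 0 := (mul_eq_zero.1 (by linear_combination e01 : (T 0 0 + T 1 1) * T 0 1 = 0)).resolve_left hs
    have hcc : T 1 0 = 0 := (mul_eq_zero.1 (by linear_combination e10 : (T 0 0 + T 1 1) * T 1 0 = 0)).resolve_left hs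
    rw [hb, zero_mul, add_zero] at e00
    rw [hb, zero_mul, sub_zero] at d
    have hz : T 0 0 ≠ 0 := fun z => by rw [z, zero_mul] at d; exact zero_ne_one d
    exact hne (mul_left_cancel₀ hz (d.trans e00.symm))
  have hsum : H 0 0 = H 1 1 := by
    rw [htr] at c01 c10
    by_contra hne
    have hs : H 0 0 + H 1 1 ≠ 0 := fun z => hne (CharTwo.add_eq_zero.1 z)
    have hb : T 0 1 = 0 := (mul_eq_zero.1 (by linear_combination c01 +
      (T 0 1 * H 1 1) * h2 : (H 0 0 + H 1 1) * T 0 1 = 0)).resolve_left hs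
    have hcc : T 1 0 = 0 := (mul_eq_zero.1 (by linear_combination c10 +
      (T 1 0 * H 1 1) * h2 - (H 1 1 * T 1 0 - H 0 0 * T 1 0) * h2 : (H 0 0 + H 1 1) * T 1 0 = 0)).resolve_left hs
    rw [hb, zero_mul, add_zero] at e00
    refine ht1 (Subtype.ext ?_)
    have h00 : T 0 0 = 1 := by
      have : (T 0 0 + 1) ^ 2 = 0 := by linear_combination e00 + (T 0 0 + 1) * h2
      exact CharTwo.add_eq_zero.1 (pow_eq_zero_iff two_ne_zero |>.1 this)
    ext i j
    fin_cases i <;> fin_cases j <;> simp [← hT, h00, hb, hcc, htr]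
  refine Subtype.ext ?_
  ext i j
  fin_cases i <;> fin_cases j <;>
    simp [Matrix.SpecialLinearGroup.coe_mul, Matrix.mul_apply, Fin.sum_univ_two, ← hH, hsum]
  · linear_combination dh + (H 0 1 * H 1 0) * h2 - H 1 1 * hsum
  · linear_combination (H 1 1 * H 0 1) * h2
  · linear_combination (H 1 1 * H 1 0) * h2
  · linear_combination dh + (H 0 1 * H 1 0) * h2 - H 1 1 * hsum

end Cfsg.Lib.SpFourResidual
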