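import Cfsg.Agent.SpFourResidual.Traces
import Cfsg.Agent.SpFourResidual.Reducible

/-!
Fixed vectors of elements of order three and five.
-/

set_option autoImplicit false
set_option linter.unusedSectionVars false
set_option linter.style.haveILetI false

namespace Cfsg.Lib.SpFourResidual

open Matrix Cfsg.Lie
open scoped MatrixGroups

universe u

variable {F : Type u} [Field F]

local notation "MM" => Matrix (Fin 4) (Fin 4) F
local notation "GG" => GL (Fin 4) F
local notation "VV" => (Fin 4 → F)

/-- The action of a symplectic element. -/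
def sv (g : Sp4 F) (v : Fin 4 → F) : Fin 4 → F := ((g : GL (Fin 4) F) : Matrix (Fin 4) (Fin 4) F) *ᵥ v

theorem sv_mul (g h : Sp4 F) (v : VV) : sv (g * h) v = sv g (sv h v) := by
  simp [sv, mulVec_mulVec]

theorem sv_one (v : VV) : sv (1 : Sp4 F) v = v := by simp [sv]

theorem sv_add (g : Sp4 F) (u v : VV) : sv g (u + v) = sv g u + sv g v := mulVec_add _ _ _

theorem sv_smul (g : Sp4 F) (c : F) (v : VV) : sv g (c • v) = c • sv g v := mulVec_smul _ _ _

theorem sv_zero (g : Sp4 F) : sv g (0 : VV) = 0 := mulVec_zero _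

theorem sv_iso (g : Sp4 F) (u v : VV) : altForm4 (sv g u) (sv g v) = altForm4 u v := mem_Sp4.1 g.2 u v

theorem sv_ext {g h : Sp4 F} (e : ∀ v, sv g v = sv h v) : g = h := by
  refine Subtype.ext (Units.ext (Matrix.toLin'.injective (LinearMap.ext fun v => ?_)))
  rw [Matrix.toLin'_apply, Matrix.toLin'_apply]
  exact e v

/-- Having a nonzero fixed vector. -/
def HasFix (g : Sp4 F) : Prop := ∃ v : Fin 4 → F, v ≠ 0 ∧ sv g v = v

theorem HasFix.conj {g c : Sp4 F} (h : HasFix g) : HasFix (c * g * c⁻¹) := by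
  obtain ⟨v, h0, hv⟩ := h
  refine ⟨sv c v, fun e => h0 ?_, ?_⟩
  · have := congrArg (sv c⁻¹) e
    rwa [← sv_mul, inv_mul_cancel, sv_one, sv_zero] at this
  · rw [← sv_mul, inv_mul_cancel_right, sv_mul, hv]

variable [CharP F 2]

theorem cancel_self (a b : VV) : a + b + b = a := by rw [add_assoc, vadd_same, add_zero]

theorem eq_of_add_zero {a b : VV} (h : a + b = 0) : a = b := funext fun i => CharTwo.add_eq_zero.1 (congrFun h i)

theorem free_three {g : Sp4 F} (h : g * g * g = 1) (hf : ¬ HasFix g) (v : VV) :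
    sv g (sv g v) + sv g v + v = 0 := by
  by_contra hne
  refine hf ⟨_, hne, ?_⟩
  rw [sv_add, sv_add, show sv g (sv g (sv g v)) = v by rw [← sv_mul, ← sv_mul, h, sv_one]]
  abel

theorem sv_comm {x y : Sp4 F} (hc : Commute x y) (v : VV) : sv x (sv y v) = sv y (sv x v) := by
  rw [← sv_mul, ← sv_mul, hc.eq]

theorem not_all_free {x y : Sp4 F} (hc : Commute x y) (hx : x * x * x = 1) (hy : y * y * y = 1) (hne : x ≠ y)
    (fx : ¬ HasFix x) (fy : ¬ HasFix y) (fz : ¬ HasFix (x * y)) : False := by
  have hz : x * y * (x * y) * (x * y) = 1 := by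
    have := (hc.mul_pow 3)
    simp only [pow_succ, pow_zero, one_mul] at this
    rw [this, hx, hy, one_mul]
  refine hne (sv_ext fun v => eq_of_add_zero ?_)
  have e := free_three hz fz v
  have e1 : sv (x * y) (sv (x * y) v) = sv (x * y) v + sv x v + sv y v + v := by
    have hxs : ∀ w, sv x (sv x w) = sv x w + w := fun w => eq_of_add_zero (by rw [← add_assoc]; exact free_three hx fx w)
    have hys : ∀ w, sv y (sv y w) = sv y w + w := fun w => eq_of_add_zero (by rw [← add_assoc]; exact free_three hy fy w)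
    simp only [sv_mul]
    rw [sv_comm hc.symm (sv y v), hxs, hys, sv_add]
    abel
  rw [e1] at e
  calc sv x v + sv y v = sv (x * y) v + sv x v + sv y v + v + sv (x * y) v + v := by
        rw [show sv (x * y) v + sv x v + sv y v + v + sv (x * y) v + v =
          (sv x v + sv y v) + ((sv (x * y) v + sv (x * y) v) + (v + v)) by abel, vadd_same, vadd_same, add_zero,
          add_zero]
    _ = 0 := e

/-- The projection on the fixed vectors of an element of order three. -/
def avgThree (g : Sp4 F) (v : Fin 4 → F) : Fin 4 → F := v + sv g v + sv g (sv g v)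

theorem avgThree_fix {g : Sp4 F} (h : g * g * g = 1) (v : VV) : sv g (avgThree g v) = avgThree g v := by
  simp only [avgThree, sv_add, ← sv_mul, ← mul_assoc, h, sv_one]
  abel

theorem avgThree_alt {g : Sp4 F} {u : VV} (hu : sv g u = u) (v : VV) :
    altForm4 u (avgThree g v) = altForm4 u v := by
  have e : ∀ w, altForm4 u (sv g w) = altForm4 u w := fun w => by conv_lhs => rw [← hu, sv_iso]
  simp only [avgThree, alt_add_right, e]
  rw [CharTwo.add_self_eq_zero, zero_add]

theorem fix_pair_three {g : Sp4 F} (h : g * g * g = 1) (hf : HasFix g) :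
    ∃ u u', altForm4 u u' = 1 ∧ sv g u = u ∧ sv g u' = u' := by
  obtain ⟨u, hu0, hu⟩ := hf
  obtain ⟨v, hv⟩ := exists_dual hu0
  exact ⟨u, avgThree g v, by rw [avgThree_alt hu, hv], hu, avgThree_fix h v⟩

variable [Finite F]

theorem eq_one_of_fix_hyp {g : Sp4 F} {e0 e1 e2 e3 : VV} (B : Hyp e0 e1 e2 e3) (h0 : sv g e0 = e0) (h1 : sv g e1 = e1)
    (h2 : sv g e2 = e2) (h3 : sv g e3 = e3) : g = 1 := by
  refine sv_ext fun v => ?_
  rw [sv_one]
  conv_lhs => rw [B.expand v]
  conv_rhs => rw [B.expand v]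
  simp only [sv_add, sv_smul, h0, h1, h2, h3]

theorem not_all_fix {x y : Sp4 F} (hc : Commute x y) (hx : x * x * x = 1) (hy : y * y * y = 1) (hne : x ≠ y)
    (x1 : x ≠ 1) (y1 : y ≠ 1) (z1 : x * y ≠ 1) (fx : HasFix x) (fy : HasFix y) (fz : HasFix (x * y)) : False := by
  have hz : x * y * (x * y) * (x * y) = 1 := by
    have := (hc.mul_pow 3)
    simp only [pow_succ, pow_zero, one_mul] at this
    rw [this, hx, hy, one_mul]
  by_cases hcom : ∃ u : VV, u ≠ 0 ∧ sv x u = u ∧ sv y u = u
  · obtain ⟨u, hu0, hux, huy⟩ := hcom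
    obtain ⟨v0, hv0⟩ := exists_dual hu0
    set u' := avgThree x (avgThree y v0) with hu'd
    have huu' : altForm4 u u' = 1 := by rw [hu'd, avgThree_alt hux, avgThree_alt huy, hv0]
    have hu'x : sv x u' = u' := avgThree_fix hx _
    have hu'y : sv y u' = u' := by
      rw [hu'd]
      have e := avgThree_fix hy v0
      generalize avgThree y v0 = w at e ⊢
      simp only [avgThree, sv_add, ← sv_comm hc, e]
    have only : ∀ g : Sp4 F, g * g * g = 1 → g ≠ 1 → sv g u = u → sv g u' = u' → ∀ w : VV, sv g w = w →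
        w = altForm4 w u' • u + altForm4 w u • u' := by
      intro g hg g1 gu gu' w hw
      by_contra hne'
      set a := w + (altForm4 w u' • u + altForm4 w u • u') with had
      have ha0 : a ≠ 0 := fun e => hne' (eq_of_add_zero e)
      have hga : sv g a = a := by simp only [had, sv_add, sv_smul, hw, gu, gu']
      have a1 : altForm4 a u = 0 := by
        simp [had, alt_add_left, alt_smul_left, alt_self, alt_comm u' u, huu', CharTwo.add_self_eq_zero]
      have a2 : altForm4 a u' = 0 := by simp [had, alt_add_left, alt_smul_left, alt_self, huu', CharTwo.add_self_eq_zero]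
      obtain ⟨b0, hb0⟩ := exists_dual ha0
      set b1 := avgThree g b0 with hb1d
      have hb1 : altForm4 a b1 = 1 := by rw [hb1d, avgThree_alt hga, hb0]
      set b := b1 + (altForm4 b1 u' • u + altForm4 b1 u • u') with hbd
      have hgb : sv g b = b := by simp only [hbd, sv_add, sv_smul, gu, gu', hb1d, avgThree_fix hg]
      have B : Hyp u a b u' := ⟨huu', by simp [hbd, alt_add_right, alt_smul_right, hb1, a1, a2],
        by rw [alt_comm]; exact a1,
        by simp [hbd, alt_add_right, alt_smul_right, alt_self, huu', alt_comm u b1, CharTwo.add_self_eq_zero],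
        by rw [alt_comm]; exact a2,
        by simp [hbd, alt_add_right, alt_smul_right, alt_self, alt_comm u' u, huu', alt_comm u' b1,
          CharTwo.add_self_eq_zero]⟩
      exact g1 (eq_one_of_fix_hyp B gu hga hgb gu')
    have havg : ∀ g : Sp4 F, g * g * g = 1 → g ≠ 1 → sv g u = u → sv g u' = u' → ∀ v,
        avgThree g v = altForm4 v u' • u + altForm4 v u • u' := by
      intro g hg g1 gu gu' v
      rw [only g hg g1 gu gu' _ (avgThree_fix hg v), alt_comm _ u', avgThree_alt gu', alt_comm u' v,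
        alt_comm _ u, avgThree_alt gu, alt_comm u v]
    have huz : sv (x * y) u = u := by rw [sv_mul, huy, hux]
    have hu'z : sv (x * y) u' = u' := by rw [sv_mul, hu'y, hu'x]
    refine hne (sv_ext fun v => ?_)
    set d := v + (altForm4 v u' • u + altForm4 v u • u') with hdd
    have d1 : altForm4 d u = 0 := by
      simp [hdd, alt_add_left, alt_smul_left, alt_self, alt_comm u' u, huu', CharTwo.add_self_eq_zero]
    have d2 : altForm4 d u' = 0 := by simp [hdd, alt_add_left, alt_smul_left, alt_self, huu', CharTwo.add_self_eq_zero]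
    have hd0 : ∀ g : Sp4 F, g * g * g = 1 → g ≠ 1 → sv g u = u → sv g u' = u' → sv g (sv g d) = sv g d + d ∧
        sv g (sv g (sv g d)) = d := fun g hg g1 gu gu' => by
      refine ⟨eq_of_add_zero ?_, by rw [← sv_mul, ← sv_mul, hg, sv_one]⟩
      have := havg g hg g1 gu gu' d
      rw [d1, d2, zero_smul, zero_smul, add_zero, avgThree] at this
      rw [← this]; abel
    obtain ⟨ex, -⟩ := hd0 x hx x1 hux hu'x
    obtain ⟨ey, -⟩ := hd0 y hy y1 huy hu'y
    obtain ⟨ez, -⟩ := hd0 (x * y) hz z1 huz hu'z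
    have e1 : sv (x * y) (sv (x * y) d) = sv (x * y) d + sv x d + sv y d + d := by
      simp only [sv_mul]
      rw [sv_comm hc.symm (sv y d), ey]
      simp only [sv_add, sv_comm hc, ex]
      abel
    rw [ez] at e1
    have exy : sv x d = sv y d := eq_of_add_zero (by
      calc sv x d + sv y d = (sv (x * y) d + sv x d + sv y d + d) + (sv (x * y) d + d) := by
            rw [show (sv (x * y) d + sv x d + sv y d + d) + (sv (x * y) d + d) =
              (sv x d + sv y d) + ((sv (x * y) d + sv (x * y) d) + (d + d)) by abel, vadd_same, vadd_same, add_zero,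
              add_zero]
        _ = 0 := by rw [← e1, vadd_same])
    have hv : v = d + (altForm4 v u' • u + altForm4 v u • u') := by rw [hdd, cancel_self]
    rw [hv]
    simp only [sv_add, sv_smul, exy, hux, huy, hu'x, hu'y]
  push Not at hcom
  obtain ⟨a, a', haa, hax, hax'⟩ := fix_pair_three hx fx
  obtain ⟨b, b', hbb, hby, hby'⟩ := fix_pair_three hy fy
  obtain ⟨c, c', hcc, hcz, hcz'⟩ := fix_pair_three hz fz
  have hyx : Commute y x := hc.symm
  have orth : ∀ g k : Sp4 F, Commute g k → g * g * g = 1 → (∀ u, u ≠ 0 → sv g u = u → sv k u ≠ u) →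
      ∀ p q : VV, sv g p = p → sv k q = q → altForm4 p q = 0 := by
    intro g k hgk hg hno p q hp hq
    rw [← avgThree_alt hp]
    have hk : sv k (avgThree g q) = avgThree g q := by
      simp only [avgThree, sv_add, ← sv_comm hgk, hq]
    by_cases h0 : avgThree g q = 0
    · rw [h0, alt_comm, alt_zero_left]
    · exact absurd hk (hno _ h0 (avgThree_fix hg q))
  have o1 : ∀ p q : VV, sv x p = p → sv y q = q → altForm4 p q = 0 := orth x y hc hx hcom
  have o2 : ∀ p q : VV, sv x p = p → sv (x * y) q = q → altForm4 p q = 0 :=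
    orth x (x * y) ((Commute.refl x).mul_right hc) hx fun u h0 hu h => hcom u h0 hu (by
      rw [sv_mul, ← sv_mul x y, hc.eq, sv_mul, hu] at h
      exact h)
  have o3 : ∀ p q : VV, sv y p = p → sv (x * y) q = q → altForm4 p q = 0 :=
    orth y (x * y) (hyx.mul_right (Commute.refl y)) hy fun u h0 hu h => hcom u h0 (by
      rw [sv_mul, hu] at h
      exact h) hu
  have B : Hyp a b b' a' := ⟨haa, hbb, o1 a b hax hby, o1 a b' hax hby', o1 a' b hax' hby, o1 a' b' hax' hby'⟩
  have hc0 : c = 0 := by
    rw [B.expand c, alt_comm c a', o2 a' c hax' hcz, alt_comm c b', o3 b' c hby' hcz, alt_comm c b, o3 b c hby hcz,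
      alt_comm c a, o2 a c hax hcz]
    simp
  rw [hc0, alt_zero_left] at hcc
  exact zero_ne_one hcc

/-- The element of order five and its inverse. -/
def sumFive (g : Sp4 F) (v : Fin 4 → F) : Fin 4 → F :=
  v + sv g v + sv g (sv g v) + sv g (sv g (sv g v)) + sv g (sv g (sv g (sv g v)))

theorem sv_five {g : Sp4 F} (h : g ^ 5 = 1) (v : VV) : sv g (sv g (sv g (sv g (sv g v)))) = v := by
  simp only [← sv_mul]
  rw [show g * (g * (g * (g * g))) = g ^ 5 by simp [pow_succ, mul_assoc], h, sv_one]

theorem sumFive_fix {g : Sp4 F} (h : g ^ 5 = 1) (v : VV) : sv g (sumFive g v) = sumFive g v := by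
  simp only [sumFive, sv_add, sv_five h]
  abel

theorem fix_pair_five {g : Sp4 F} (h : g ^ 5 = 1) (hf : HasFix g) :
    ∃ u u', altForm4 u u' = 1 ∧ sv g u = u ∧ sv g u' = u' := by
  obtain ⟨u, hu0, hu⟩ := hf
  obtain ⟨v, hv⟩ := exists_dual hu0
  have e : ∀ w, altForm4 u (sv g w) = altForm4 u w := fun w => by conv_lhs => rw [← hu, sv_iso]
  refine ⟨u, sumFive g v, ?_, hu, sumFive_fix h v⟩
  simp only [sumFive, alt_add_right, e, hv]
  rw [CharTwo.add_self_eq_zero, zero_add, CharTwo.add_self_eq_zero, zero_add]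

theorem trace_hyp {e0 e1 e2 e3 : VV} (B : Hyp e0 e1 e2 e3) (g : Sp4 F) :
    tr4 (g : GG) = altForm4 (sv g e0) e3 + altForm4 (sv g e1) e2 + altForm4 (sv g e2) e1 + altForm4 (sv g e3) e0 := by
  have hcol : ∀ a, ((g : GG) : MM) a a = (sv g (Pi.single a 1)) a := fun a => by
    rw [sv, mulVec_single_one]; rfl
  have hexp : ∀ w : VV, ∀ a, w a =
      altForm4 w e3 * e0 a + altForm4 w e2 * e1 a + altForm4 w e1 * e2 a + altForm4 w e0 * e3 a := fun w a => by
    conv_lhs => rw [B.expand w]
    simp only [Pi.add_apply, Pi.smul_apply, smul_eq_mul]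
  have hlin : ∀ e w : VV, ∑ a, altForm4 (sv g (Pi.single a 1)) w * e a = altForm4 (sv g e) w := fun e w => by
    simp only [sv, mulVec_single_one]
    simp only [altForm4, mulVec, dotProduct, Fin.sum_univ_four, Matrix.col_apply]
    ring
  rw [tr4, Matrix.trace]
  simp only [Matrix.diag_apply, hcol]
  rw [Finset.sum_congr rfl fun a _ => hexp (sv g (Pi.single a 1)) a]
  simp only [Finset.sum_add_distrib, hlin]

/-- A fixed-point-free element of order five has trace zero or one. -/
theorem free_five {g : Sp4 F} (h : g ^ 5 = 1) (hf : ¬ HasFix g) (h4 : tr4 (g : GG) ^ 4 = tr4 (g : GG)) :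
    tr4 (g : GG) * tr4 (g : GG) = tr4 (g : GG) := by
  set t := tr4 (g : GG) with ht
  by_contra hne
  have h2 : (2 : F) = 0 := CharP.cast_eq_zero F 2
  have htt : t * t + t + 1 = 0 := by
    have : (t * t - t) * (t * t + t + 1) = 0 := by linear_combination h4
    exact (mul_eq_zero.1 this).resolve_left (sub_ne_zero.2 hne)
  have hs : ∀ v, sumFive g v = 0 := fun v => by
    by_contra hv
    exact hf ⟨_, hv, sumFive_fix h v⟩
  let A : VV → VV := fun v => sv g v + sv g (sv g (sv g (sv g v)))
  have Aadd : ∀ u v, A (u + v) = A u + A v := fun u v => by simp only [A, sv_add]; abel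
  have Asmul : ∀ (c : F) v, A (c • v) = c • A v := fun c v => by simp only [A, sv_smul, smul_add]
  have hAA : ∀ v, A (A v) = A v + v := fun v => eq_of_add_zero (by
    have e := hs v
    simp only [A, sv_add, sv_five h, sumFive] at e ⊢
    calc _ = (v + sv g v + sv g (sv g v) + sv g (sv g (sv g v)) + sv g (sv g (sv g (sv g v)))) + (v + v) := by abel
      _ = 0 := by rw [e, vadd_same, add_zero])
  have Asym : ∀ u v, altForm4 (A u) v = altForm4 u (A v) := fun u v => by
    have e1 : ∀ u v, altForm4 (sv g u) v = altForm4 u (sv g (sv g (sv g (sv g v)))) := fun u v => by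
      conv_lhs => rw [← sv_five h v, sv_iso]
    simp only [A, alt_add_left, alt_add_right]
    rw [e1 u v, show altForm4 (sv g (sv g (sv g (sv g u)))) v = altForm4 u (sv g v) by
      rw [alt_comm, ← e1 v u, alt_comm]]
    exact add_comm _ _
  have htr : ∀ {e0 e1 e2 e3 : VV}, Hyp e0 e1 e2 e3 → t = altForm4 (A e0) e3 + altForm4 (A e1) e2 := fun {e0 e1 e2 e3} B => by
    rw [ht, trace_hyp B g]
    have e1' : ∀ u v, altForm4 (sv g u) v = altForm4 (sv g (sv g (sv g (sv g v)))) u := fun u v => by
      conv_lhs => rw [← sv_five h v, sv_iso]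
      exact alt_comm _ _
    rw [e1' e3 e0, e1' e2 e1]
    simp only [A, alt_add_left]
    ring
  have hscalar : ∀ c : F, (∀ v, A v = c • v) → False := fun c hc => by
    obtain ⟨i, hi⟩ : ∃ i : Fin 4, i = 0 := ⟨0, rfl⟩
    have hu0 : (Pi.single i 1 : VV) ≠ 0 := fun e => (one_ne_zero : (1 : F) ≠ 0) (by simpa using congrFun e i)
    obtain ⟨u', hu'⟩ := exists_dual hu0
    haveI : Fintype F := Fintype.ofFinite F
    obtain ⟨x, hx, hl⟩ := exists_dual_pair hu'
    have e := htr hl
    rw [hc, hc, alt_smul_left, alt_smul_left, hl.h03, hl.h12, CharTwo.add_self_eq_zero] at e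
    rw [e, mul_zero, zero_add] at htt
    simp at htt
  have hsplit : ∀ s : F, s * s + s + 1 = 0 → ∀ w, A (A w + (s + 1) • w) = s • (A w + (s + 1) • w) := fun s hs' w => by
    rw [Aadd, Asmul, hAA]
    generalize A w = z
    funext i
    simp only [Pi.add_apply, Pi.smul_apply, smul_eq_mul]
    linear_combination (z i + w i) * h2 - w i * hs'
  have htt' : (t + 1) * (t + 1) + (t + 1) + 1 = 0 := by linear_combination htt + (t + 1) * h2
  by_cases hA1 : ∀ w, A w + (t + 1) • w = 0
  · exact hscalar (t + 1) fun v => eq_of_add_zero (hA1 v)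
  by_cases hA2 : ∀ w, A w + t • w = 0
  · exact hscalar t fun v => eq_of_add_zero (hA2 v)
  push Not at hA1 hA2
  obtain ⟨w, hw⟩ := hA1
  obtain ⟨w', hw'⟩ := hA2
  set a := A w + (t + 1) • w with had
  set b := A w' + t • w' with hbd
  have ha : A a = t • a := hsplit t htt w
  have hb : A b = (t + 1) • b := by
    have := hsplit (t + 1) htt' w'
    rwa [add_assoc t 1 1, CharTwo.add_self_eq_zero, add_zero, ← hbd] at this
  have hperp : ∀ p q, A p = t • p → A q = (t + 1) • q → altForm4 p q = 0 := fun p q hp hq => by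
    have := Asym p q
    rw [hp, hq, alt_smul_left, alt_smul_right] at this
    linear_combination -this
  have partner : ∀ s : F, s * s + s + 1 = 0 → ∀ p, p ≠ 0 → A p = s • p → ∃ p', A p' = s • p' ∧ altForm4 p p' = 1 := by
    intro s hs' p hp0 hp
    obtain ⟨v, hv⟩ := exists_dual hp0
    refine ⟨A v + (s + 1) • v, hsplit s hs' v, ?_⟩
    rw [alt_add_right, alt_smul_right, ← Asym, hp, alt_smul_left, hv]
    linear_combination s * h2
  obtain ⟨a', ha', haa⟩ := partner t htt a hw ha
  obtain ⟨b', hb', hbb⟩ := partner (t + 1) htt' b hw' hb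
  have B : Hyp a b b' a' := ⟨haa, hbb, hperp a b ha hb, hperp a b' ha hb', hperp a' b ha' hb, hperp a' b' ha' hb'⟩
  have e := htr B
  rw [ha, hb, alt_smul_left, alt_smul_left, haa, hbb, mul_one, mul_one, ← add_assoc, CharTwo.add_self_eq_zero,
    zero_add] at e
  exact hne (by rw [e, mul_one])
where
  exists_dual_pair {u u' : Fin 4 → F} (h : altForm4 u u' = 1) :
      ∃ x : Fin 4 → F × F, True ∧ Hyp u (fun i => (x i).1) (fun i => (x i).2) u' := by
    obtain ⟨x, y, B⟩ := Cfsg.Lib.SpFourResidual.extend_pair h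
    exact ⟨fun i => (x i, y i), trivial, B⟩

/-- An element of order three which is the product of an element of order five with a fixed vector and an involution
has a fixed vector. -/
theorem fix_of_product {x w : Sp4 F} (hx : x * x * x = 1) (hw : w * w = 1) (hg : (x * w) ^ 5 = 1) (hg1 : x * w ≠ 1)
    (hf : HasFix (x * w)) : HasFix x := by
  by_contra hfx
  obtain ⟨u, u', huu, hu, hu'⟩ := fix_pair_five hg hf
  have hw2 : ∀ v, sv w (sv w v) = v := fun v => by rw [← sv_mul, hw, sv_one]
  have hx3 := free_three hx hfx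
  have hcom : ∀ v, sv (x * w) v = v → sv w v = v → v = 0 := fun v h1 h2 => by
    by_contra h0
    refine hfx ⟨v, h0, ?_⟩
    rwa [sv_mul, h2] at h1
  have hwfix : ∀ v, sv (x * w) v = v → sv (x * w) (sv w v) = v + sv w v := fun v hv => by
    rw [sv_mul, hw2]
    have e1 : sv x (sv w v) = v := by rwa [← sv_mul]
    have e := hx3 (sv w v)
    rw [e1] at e
    exact eq_of_add_zero (by rw [← add_assoc]; exact e)
  have hWinj : ∀ v v', sv (x * w) v = v → sv (x * w) v' = v' → v = sv w v' → v = 0 := fun v v' hv hv' e => by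
    have hs : sv w (v + v') = v + v' := by rw [sv_add, ← e, show sv w v = v' by rw [e, hw2], add_comm]
    have h0 := eq_of_add_zero (hcom _ (by rw [sv_add, hv, hv']) hs)
    exact hcom v hv (by conv_lhs => rw [h0]
                        exact e.symm)
  let Φ : VV → VV := fun c => c 0 • u + c 1 • u' + sv w (c 2 • u + c 3 • u')
  have hpl : ∀ p q : F, sv (x * w) (p • u + q • u') = p • u + q • u' := fun p q => by
    simp only [sv_add, sv_smul, hu, hu']
  have hcoef : ∀ p q : F, p • u + q • u' = 0 → p = 0 ∧ q = 0 := fun p q e => by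
    have e1 := congrArg (altForm4 · u') e
    have e2 := congrArg (altForm4 · u) e
    simp only [alt_add_left, alt_smul_left, alt_self, huu, alt_comm u' u, alt_zero_left, mul_one, mul_zero, add_zero,
      zero_add] at e1 e2
    exact ⟨e1, e2⟩
  have hinj : Function.Injective Φ := fun c d e => by
    simp only [Φ] at e
    have e' : (c 0 + d 0) • u + (c 1 + d 1) • u' = sv w ((c 2 + d 2) • u + (c 3 + d 3) • u') := by
      refine eq_of_add_zero ?_
      simp only [sv_add, sv_smul, add_smul] at e ⊢
      calc _ = (c 0 • u + c 1 • u' + (c 2 • sv w u + c 3 • sv w u')) +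
            (d 0 • u + d 1 • u' + (d 2 • sv w u + d 3 • sv w u')) := by abel
        _ = 0 := by rw [e, vadd_same]
    have h1 := hWinj _ _ (hpl _ _) (hpl _ _) e'
    have h2 : (c 2 + d 2) • u + (c 3 + d 3) • u' = 0 := by
      rw [h1] at e'
      rw [← hw2 ((c 2 + d 2) • u + (c 3 + d 3) • u'), ← e', sv_zero]
    obtain ⟨a0, a1⟩ := hcoef _ _ h1
    obtain ⟨a2, a3⟩ := hcoef _ _ h2
    funext i
    fin_cases i
    exacts [CharTwo.add_eq_zero.1 a0, CharTwo.add_eq_zero.1 a1, CharTwo.add_eq_zero.1 a2, CharTwo.add_eq_zero.1 a3]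
  have hsq : x * w * (x * w) = 1 := sv_ext fun v => by
    obtain ⟨c, rfl⟩ := Finite.surjective_of_injective hinj v
    simp only [Φ, sv_one]
    have p1 := hpl (c 0) (c 1)
    have p2 := hpl (c 2) (c 3)
    generalize c 0 • u + c 1 • u' = a at p1 ⊢
    generalize c 2 • u + c 3 • u' = b at p2 ⊢
    rw [sv_mul, sv_add, p1, hwfix b p2, sv_add, p1, sv_add, p2, hwfix b p2, ← add_assoc b b, vadd_same, zero_add]
  refine hg1 ?_
  have : (x * w) ^ 5 = x * w := by
    calc (x * w) ^ 5 = ((x * w) * (x * w)) * ((x * w) * (x * w)) * (x * w) := by simp [pow_succ, mul_assoc]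
      _ = x * w := by rw [hsq, one_mul, one_mul]
  rw [← this, hg]

end Cfsg.Lib.SpFourResidual
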