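import Cfsg.Agent.SpFourResidual.Basic

/-!
The three kinds of involution of the symplectic group in four dimensions in characteristic two.
-/

set_option autoImplicit false
set_option linter.unusedSectionVars false
set_option linter.style.haveILetI false

namespace Cfsg.Lib.SpFourResidual

open Matrix Cfsg.Lie
open scoped MatrixGroups

universe u

variable {F : Type u} [Field F]

local notation "MM" => Matrix (Fin 4) (Fin 4) F
local notation "GG" => GL (Fin 4) F
local notation "VV" => (Fin 4 → F)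

variable [CharP F 2]

theorem vadd_same (v : Fin 4 → F) : v + v = 0 := funext fun _ => CharTwo.add_self_eq_zero _

/-- The nilpotent part of an involution. -/
def nv (g : GL (Fin 4) F) (v : Fin 4 → F) : Fin 4 → F := (g : Matrix (Fin 4) (Fin 4) F) *ᵥ v + v

theorem nv_add (g : GG) (u v : VV) : nv g (u + v) = nv g u + nv g v := by
  simp only [nv, mulVec_add]; abel

theorem nv_smul (g : GG) (c : F) (v : VV) : nv g (c • v) = c • nv g v := by
  simp only [nv, mulVec_smul, smul_add]

theorem eq_add_nv (g : GG) (v : VV) : (g : MM) *ᵥ v = v + nv g v := by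
  simp only [nv]
  rw [show v + ((g : MM) *ᵥ v + v) = (g : MM) *ᵥ v + (v + v) by abel, vadd_same, add_zero]

theorem exists_dual {a : Fin 4 → F} (ha : a ≠ 0) : ∃ v, altForm4 a v = 1 := by
  obtain ⟨v, hv⟩ := alt_nondeg ha
  exact ⟨(altForm4 a v)⁻¹ • v, by rw [alt_smul_right, inv_mul_cancel₀ hv]⟩

/-- The functional of a vector. -/
def dualVec (a : Fin 4 → F) : Fin 4 → F := ![a 3, a 2, a 1, a 0]

theorem vecMulVec_dual (a b v : VV) : Matrix.vecMulVec a (dualVec b) *ᵥ v = altForm4 b v • a := by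
  funext i
  simp only [mulVec, dotProduct, vecMulVec_apply, Fin.sum_univ_four, Pi.smul_apply, smul_eq_mul, altForm4]
  simp [dualVec]
  ring

theorem Hyp.of_duals {a b u w : VV} (hab : altForm4 a b = 0) (hau : altForm4 a u = 1) (hbw : altForm4 b w = 1)
    (haw : altForm4 a w = 0) (hbu : altForm4 b u = 0) : Hyp a b w (u + altForm4 u w • b) where
  h03 := by rw [alt_add_right, alt_smul_right, hau, hab, mul_zero, add_zero]
  h12 := hbw
  h01 := hab
  h02 := haw
  h31 := by rw [alt_add_left, alt_smul_left, alt_comm, hbu, alt_self, mul_zero, add_zero]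
  h32 := by rw [alt_add_left, alt_smul_left, hbw, mul_one, CharTwo.add_self_eq_zero]

theorem span_pair [Finite F] {a b u w : VV} (hab : altForm4 a b = 0) (hau : altForm4 a u = 1) (hbw : altForm4 b w = 1)
    (haw : altForm4 a w = 0) (hbu : altForm4 b u = 0) {y : VV} (hya : altForm4 y a = 0) (hyb : altForm4 y b = 0) :
    y = altForm4 y u • a + altForm4 y w • b := by
  have h := (Hyp.of_duals hab hau hbw haw hbu).expand y
  rwa [hya, hyb, zero_smul, zero_smul, add_zero, add_zero, alt_add_right, alt_smul_right, hyb, mul_zero, add_zero] at h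

theorem sqrt_exists [Finite F] (z : F) : ∃ s : F, s ^ 2 = z := by
  haveI : Fact (Nat.Prime 2) := ⟨Nat.prime_two⟩
  obtain ⟨s, hs⟩ := Finite.surjective_of_injective (frobenius_inj F 2) z
  rw [frobenius_def] at hs
  exact ⟨s, hs⟩

theorem eq_one_of_sq_sum {x y : F} (h : x ^ 2 + y ^ 2 = 1) : y = 1 + x := by
  have h0 : (1 + x + y) ^ 2 = 0 := by
    have h2 : (2 : F) = 0 := CharP.cast_eq_zero F 2
    linear_combination h + (x + y + x * y + 1) * h2
  exact (CharTwo.add_eq_zero.1 (pow_eq_zero_iff two_ne_zero |>.1 h0)).symm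

section

variable {g : GL (Fin 4) F} (hg : g ∈ Sp4 F) (hg2 : g * g = 1)
include hg hg2

theorem inv_apply (v : VV) : (g : MM) *ᵥ ((g : MM) *ᵥ v) = v := by
  rw [mulVec_mulVec, ← Units.val_mul, hg2, Units.val_one, one_mulVec]

theorem nv_nv (v : VV) : nv g (nv g v) = 0 := by
  simp only [nv, mulVec_add, inv_apply hg hg2]
  rw [show v + (g : MM) *ᵥ v + ((g : MM) *ᵥ v + v) = (v + v) + ((g : MM) *ᵥ v + (g : MM) *ᵥ v) by abel, vadd_same,
    vadd_same, add_zero]

theorem nv_sym (u v : VV) : altForm4 (nv g u) v = altForm4 (nv g v) u := by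
  have h : altForm4 ((g : MM) *ᵥ u) v = altForm4 ((g : MM) *ᵥ v) u := by
    rw [← mem_Sp4.1 hg ((g : MM) *ᵥ u) v, inv_apply hg hg2, alt_comm]
  simp only [nv, alt_add_left, h, alt_comm u v]

theorem nv_iso (u v : VV) : altForm4 (nv g u) (nv g v) = 0 := by
  rw [nv_sym hg hg2, nv_nv hg hg2, alt_zero_left]

variable [Finite F]

/-- The nilpotent part from a pair of dual pairs. -/
theorem nv_formula {u w A B U W : VV} (hA : A = nv g u) (hB : B = nv g w) (hAU : altForm4 A U = 1)
    (hBW : altForm4 B W = 1) (hAW : altForm4 A W = 0) (hBU : altForm4 B U = 0) (y : VV) :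
    nv g y = altForm4 (nv g U) y • A + altForm4 (nv g W) y • B := by
  rw [nv_sym hg hg2 U y, nv_sym hg hg2 W y]
  subst hA hB
  exact span_pair (nv_iso hg hg2 u w) hAU hBW hAW hBU (nv_iso hg hg2 y u) (nv_iso hg hg2 y w)

/-- In the third kind the centraliser is a group of exponent four. -/
theorem centralizer_four {u z : VV} (hu : altForm4 (nv g u) u = 1) (hz : altForm4 (nv g z) z = 1)
    (huz : altForm4 (nv g u) z = 0) {h : GL (Fin 4) F} (hh : h ∈ Sp4 F) (hc : Commute h g) : h ^ 4 = 1 := by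
  set a := nv g u with ha
  set b := nv g z with hb
  have hbu : altForm4 b u = 0 := by rw [hb, nv_sym hg hg2, ← ha, huz]
  have hN : ∀ y, nv g y = altForm4 a y • a + altForm4 b y • b := fun y =>
    nv_formula hg hg2 ha hb hu hz huz hbu y
  have hNh : ∀ v, nv g ((h : MM) *ᵥ v) = (h : MM) *ᵥ nv g v := fun v => by
    simp only [nv, mulVec_add, mulVec_mulVec, ← Units.val_mul, hc.eq]
  set x := altForm4 a ((h : MM) *ᵥ u) with hx
  set y := altForm4 b ((h : MM) *ᵥ u) with hy
  set z' := altForm4 a ((h : MM) *ᵥ z) with hz'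
  set t := altForm4 b ((h : MM) *ᵥ z) with ht
  have hha : (h : MM) *ᵥ a = x • a + y • b := by rw [ha, ← hNh, hN, ← ha]
  have hhb : (h : MM) *ᵥ b = z' • a + t • b := by rw [hb, ← hNh, hN, ← hb]
  have e1 : y = 1 + x := eq_one_of_sq_sum (by
    have h1 := mem_Sp4.1 hh a u
    rw [hha, alt_add_left, alt_smul_left, alt_smul_left, ← hx, ← hy, hu] at h1
    linear_combination h1)
  have e2 : t = 1 + z' := eq_one_of_sq_sum (by
    have h1 := mem_Sp4.1 hh b z
    rw [hhb, alt_add_left, alt_smul_left, alt_smul_left, ← hz', ← ht, hz] at h1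
    linear_combination h1)
  have e3 : x * z' + y * t = 0 := by
    have h1 := mem_Sp4.1 hh a z
    rwa [hha, alt_add_left, alt_smul_left, alt_smul_left, ← hz', ← ht, huz] at h1
  have h2 : (2 : F) = 0 := CharP.cast_eq_zero F 2
  have e4 : z' = y := by
    rw [e1, e2] at e3
    rw [e1]
    linear_combination e3 - (1 + x + x * z') * h2
  have e5 : t = x := by rw [e2, e4, e1, ← add_assoc, CharTwo.add_self_eq_zero, zero_add]
  have fixab : ∀ {v : VV}, altForm4 v a = 0 → altForm4 v b = 0 → (h : MM) *ᵥ ((h : MM) *ᵥ v) = v := by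
    intro v hva hvb
    have hv := span_pair (nv_iso hg hg2 u z) hu hz huz hbu hva hvb
    rw [hv]
    set α := altForm4 v u
    set β := altForm4 v z
    simp only [← ha, ← hb, mulVec_add, mulVec_smul, hha, hhb, e4, e5, smul_add, smul_smul]
    rw [show α * x * x = α * x ^ 2 by ring, show β * y * x = β * x * y by ring, e1]
    funext i
    simp only [Pi.add_apply, Pi.smul_apply, smul_eq_mul]
    linear_combination ((α * a i + β * b i) * (x + x ^ 2) + (α * b i + β * a i) * (x + x ^ 2)) * h2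
  have hker : ∀ v, nv g v = 0 → (h : MM) *ᵥ ((h : MM) *ᵥ v) = v := fun v hv => by
    refine fixab ?_ ?_
    · rw [alt_comm, ha, nv_sym hg hg2, hv, alt_zero_left]
    · rw [alt_comm, hb, nv_sym hg hg2, hv, alt_zero_left]
  apply Units.ext
  apply Matrix.toLin'.injective
  refine LinearMap.ext fun v => ?_
  rw [Matrix.toLin'_apply, Matrix.toLin'_apply, Units.val_pow_eq_pow_val, Units.val_one, one_mulVec]
  set H : MM := (h : MM) with hH
  have hd : nv g (H *ᵥ (H *ᵥ v) + v) = 0 := by
    rw [nv_add, hNh, hNh, hker _ (nv_nv hg hg2 v), vadd_same]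
  have h3 := hker _ hd
  rw [mulVec_add, mulVec_add] at h3
  calc H ^ 4 *ᵥ v = H *ᵥ (H *ᵥ (H *ᵥ (H *ᵥ v))) := by simp [pow_succ, mulVec_mulVec, mul_assoc]
    _ = H *ᵥ (H *ᵥ (H *ᵥ (H *ᵥ v))) + H *ᵥ (H *ᵥ v) + H *ᵥ (H *ᵥ v) := by
        rw [add_assoc, vadd_same, add_zero]
    _ = v := by
        rw [h3, show H *ᵥ (H *ᵥ v) + v + H *ᵥ (H *ᵥ v) = (H *ᵥ (H *ᵥ v) + H *ᵥ (H *ᵥ v)) + v by abel, vadd_same,
          zero_add]

/-- An involution is a transvection, or of alternating kind, or has a centraliser of exponent four. -/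
theorem invol_cases (h1 : g ≠ 1) :
    (∃ x φ : Fin 4 → F, (g : MM) = 1 + Matrix.vecMulVec x φ) ∨
    (∃ p q : Fin 4 → F, altForm4 p q = 0 ∧ ∀ v, (g : MM) *ᵥ v = v + (altForm4 q v • p + altForm4 p v • q)) ∨
    (∀ h ∈ Sp4 F, Commute h g → h ^ 4 = 1) := by
  by_cases halt : ∀ v, altForm4 (nv g v) v = 0
  · obtain ⟨u, hu⟩ : ∃ u, nv g u ≠ 0 := by
      by_contra hc
      push Not at hc
      refine h1 (Units.ext (Matrix.toLin'.injective (LinearMap.ext fun v => ?_)))
      rw [Matrix.toLin'_apply, Matrix.toLin'_apply, eq_add_nv, hc, add_zero, Units.val_one, one_mulVec]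
    obtain ⟨v, hv⟩ := exists_dual hu
    refine Or.inr (Or.inl ⟨nv g u, nv g v, nv_iso hg hg2 u v, fun y => ?_⟩)
    rw [eq_add_nv]
    congr 1
    exact nv_formula hg hg2 rfl rfl hv (by rw [nv_sym hg hg2]; exact hv) (halt u) (halt v) y
  push Not at halt
  obtain ⟨u₀, hu₀⟩ := halt
  obtain ⟨s, hs⟩ := sqrt_exists (altForm4 (nv g u₀) u₀)⁻¹
  set u := s • u₀ with hud
  have hu : altForm4 (nv g u) u = 1 := by
    rw [hud, nv_smul, alt_smul_left, alt_smul_right, ← mul_assoc, ← sq, hs, inv_mul_cancel₀ hu₀]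
  set a := nv g u with ha
  by_cases hone : ∀ y, nv g y = altForm4 a y • a
  · refine Or.inl ⟨a, dualVec a, Matrix.toLin'.injective (LinearMap.ext fun v => ?_)⟩
    rw [Matrix.toLin'_apply, Matrix.toLin'_apply, eq_add_nv, hone, add_mulVec, one_mulVec, vecMulVec_dual]
  push Not at hone
  obtain ⟨y₀, hy₀⟩ := hone
  set z₀ := y₀ + altForm4 a y₀ • u with hz₀
  have haz : altForm4 a z₀ = 0 := by
    rw [hz₀, alt_add_right, alt_smul_right, hu, mul_one, CharTwo.add_self_eq_zero]
  have hb0 : nv g z₀ ≠ 0 := by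
    rw [hz₀, nv_add, nv_smul, ← ha]
    intro e
    exact hy₀ (by
      funext i
      exact CharTwo.add_eq_zero.1 (congrFun e i))
  by_cases he : altForm4 (nv g z₀) z₀ = 0
  · exfalso
    obtain ⟨w₀, hw₀⟩ := exists_dual hb0
    have hbu : altForm4 (nv g z₀) u = 0 := by rw [nv_sym hg hg2, ← ha, haz]
    set w := w₀ + altForm4 a w₀ • u with hw
    have hbw : altForm4 (nv g z₀) w = 1 := by
      rw [hw, alt_add_right, alt_smul_right, hw₀, hbu, mul_zero, add_zero]
    have haw : altForm4 a w = 0 := by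
      rw [hw, alt_add_right, alt_smul_right, hu, mul_one, CharTwo.add_self_eq_zero]
    have hz := span_pair (nv_iso hg hg2 u z₀) hu hbw haw hbu (y := z₀) (by rw [alt_comm]; exact haz)
      (by rw [alt_comm]; exact he)
    refine hb0 ?_
    rw [hz, nv_add, nv_smul g (altForm4 z₀ u), nv_smul g (altForm4 z₀ w), nv_nv hg hg2, nv_nv hg hg2, smul_zero, smul_zero, add_zero]
  obtain ⟨r, hr⟩ := sqrt_exists (altForm4 (nv g z₀) z₀)⁻¹
  refine Or.inr (Or.inr fun h hh hc => centralizer_four hg hg2 hu (z := r • z₀) ?_ ?_ hh hc)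
  · rw [nv_smul, alt_smul_left, alt_smul_right, ← mul_assoc, ← sq, hr, inv_mul_cancel₀ he]
  · rw [alt_smul_right, ← ha, haz, mul_zero]

end

end Cfsg.Lib.SpFourResidual
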