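import Cfsg.Agent.SpFourResidual.Fixed
import Cfsg.Agent.MitchellThree.Residual.GroupFacts
import Cfsg.Agent.Classical.Misc.SmallPSL
import Cfsg.Agent.S2739
import Cfsg.Agent.S2475
import Cfsg.Agent.S0497

/-!
The socle is none of the small groups with 2-groups as involution centralisers.
-/

set_option autoImplicit false
set_option linter.unusedSectionVars false
set_option linter.style.haveILetI false

namespace Cfsg.Lib.SpFourResidual

open Matrix Cfsg.Lie
open scoped MatrixGroups
open Cfsg.Lib.MitchellThree.Residual (psl_seven_orders psl_seven_conj alt_six_orders)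

universe u

variable {F : Type u} [Field F] [CharP F 2] [Finite F] {P : Subgroup (GL (Fin 4) F)}

local notation "MM" => Matrix (Fin 4) (Fin 4) F
local notation "GG" => GL (Fin 4) F

theorem unipotent_four {g : GG} {k : ℕ} (h : g ^ 2 ^ k = 1) : g ^ 4 = 1 := by
  haveI : Fact (Nat.Prime 2) := ⟨Nat.prime_two⟩
  have hn : ((g : MM) + 1) ^ 2 ^ k = 0 := by
    rw [add_pow_char_pow_of_commute (p := 2) (h := Commute.one_right _), one_pow, ← Units.val_pow_eq_pow_val, h,
      Units.val_one]
    exact CharTwo.add_self_eq_zero _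
  have h4 : ((g : MM) + 1) ^ 4 = 0 := by
    set N : MM := (g : MM) + 1
    have hd : minpoly F N ∣ Polynomial.X ^ 2 ^ k := minpoly.dvd _ _ (by rw [map_pow, Polynomial.aeval_X, hn])
    obtain ⟨j, -, hj⟩ := (dvd_prime_pow Polynomial.prime_X _).1 hd
    have he : minpoly F N = Polynomial.X ^ j := Polynomial.eq_of_monic_of_associated
      (minpoly.monic (Matrix.isIntegral N)) (Polynomial.monic_X_pow j) hj
    have hdeg : j ≤ 4 := by
      have h1 := Polynomial.natDegree_le_of_dvd (Matrix.minpoly_dvd_charpoly N) (Matrix.charpoly_monic N).ne_zero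
      rw [he, Polynomial.natDegree_X_pow, Matrix.charpoly_natDegree_eq_dim, Fintype.card_fin] at h1
      exact h1
    have h0 : N ^ j = 0 := by
      have := minpoly.aeval F N
      rwa [he, map_pow, Polynomial.aeval_X] at this
    exact pow_eq_zero_of_le hdeg h0
  replace h4 : ((g : MM) + 1) ^ 2 ^ 2 = 0 := h4
  rw [add_pow_char_pow_of_commute (p := 2) (h := Commute.one_right _), one_pow] at h4
  exact Units.ext (by
    rw [Units.val_pow_eq_pow_val, Units.val_one]
    exact Matrix.ext fun i j => CharTwo.add_eq_zero.1 (congrFun (congrFun h4 i) j))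

theorem tr4_three {g : GG} (hg : g ∈ Sp4 F) (h : g ^ 3 = 1) : tr4 g * tr4 g = tr4 g := by
  rw [← sq]
  refine tr4_fixed hg (k := 1) (c := 1) (Or.inr ?_)
  rw [one_mul, inv_one, mul_one, pow_one]
  exact inv_eq_of_mul_eq_one_left (by rw [← pow_succ]; exact h)

theorem tr4_two {g : GG} (h : g ^ 4 = 1) : tr4 g * tr4 g = tr4 g := by
  rw [tr4_unipotent (k := 2) h, mul_zero]

variable {H : Type*} [Group H]

theorem Core4.small_exponents (C : Core4 P) (h4 : 4 ≤ Nat.card F) (e : P ≃* H)
    (hord : ∀ x : H, x ^ 3 = 1 ∨ x ^ 4 = 1 ∨ ∃ c, c * x * c⁻¹ = x * x) : False := by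
  haveI : Fintype F := Fintype.ofFinite F
  obtain ⟨f, -, hf⟩ := FiniteField.card F 2
  refine C.one_lt (f := f) (by rw [Nat.card_eq_fintype_card, hf]) h4 fun g hg => ?_
  rcases hord (e ⟨g, hg⟩) with h | h | ⟨c, hc⟩
  · rw [← map_pow, MulEquiv.map_eq_one_iff] at h
    exact tr4_three (C.le hg) (congrArg Subtype.val h)
  · rw [← map_pow, MulEquiv.map_eq_one_iff] at h
    exact tr4_two (congrArg Subtype.val h)
  · obtain ⟨c', rfl⟩ := e.surjective c
    rw [← map_inv, ← map_mul, ← map_mul, ← map_mul] at hc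
    rw [← sq]
    refine tr4_fixed (C.le hg) (k := 1) (c := (c' : GG)) (Or.inl ?_)
    rw [pow_one, sq]
    exact congrArg Subtype.val (e.injective hc)

theorem Core4.not_psl_seven (C : Core4 P) (h4 : 4 ≤ Nat.card F) {K : Type} [Field K] [Fintype K]
    (hK : Fintype.card K = 7) (e : P ≃* ProjectiveSpecialLinearGroup (Fin 2) K) : False :=
  C.small_exponents h4 e fun x => (psl_seven_orders hK x).imp id fun h => h.imp id fun h => psl_seven_conj hK x h

theorem Core4.not_psl_three (C : Core4 P) (h4 : 4 ≤ Nat.card F) {K : Type} [Field K] [Fintype K]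
    (hK : Fintype.card K = 3) (e : P ≃* ProjectiveSpecialLinearGroup (Fin 2) K) : False := by
  obtain ⟨i⟩ := Cfsg.Lib.Classical.SmallPSL.psl_three (F := K) hK
  refine C.small_exponents h4 (e.trans i) fun x => ?_
  have key : ∀ x : alternatingGroup (Fin 4), x ^ 3 = 1 ∨ x ^ 4 = 1 := by decide +kernel
  exact (key x).imp id Or.inl

theorem Core4.not_large_prime (C : Core4 P) {K : Type} [Field K] [Fintype K]
    (hp : (Fintype.card K).Prime) {k : ℕ} (hk : Fintype.card K = 2 ^ k + 1 ∨ Fintype.card K + 1 = 2 ^ k)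
    (h17 : 17 ≤ Fintype.card K) (e : P ≃* ProjectiveSpecialLinearGroup (Fin 2) K) : False := by
  haveI : Fact (Fintype.card K).Prime := ⟨hp⟩
  obtain ⟨p, hpc⟩ := CharP.exists K
  obtain ⟨n, hpp, hn⟩ := FiniteField.card K p
  haveI : Fact p.Prime := ⟨hpp⟩
  have hgcd : Nat.gcd 2 (Fintype.card K - 1) = 2 := by
    obtain ⟨j, hj⟩ := hp.odd_of_ne_two (by omega)
    exact Nat.gcd_eq_left ⟨j, by omega⟩
  have hk4 : 4 ≤ k := by
    by_contra hlt
    have : 2 ^ k ≤ 2 ^ 3 := Nat.pow_le_pow_right two_pos (by omega)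
    omega
  have h8 : 8 ∈ Set.range (orderOf : ProjectiveSpecialLinearGroup (Fin 2) K → ℕ) := by
    rw [Cfsg.Agent.S2475.result p (by omega), hgcd]
    have h8' : 8 ∣ 2 ^ k / 2 := by
      obtain ⟨d, rfl⟩ : ∃ d, k = d + 4 := ⟨k - 4, by omega⟩
      exact ⟨2 ^ d, by rw [pow_add]; omega⟩
    rcases hk with hk | hk
    · exact Or.inr (Or.inl (by rwa [hk, Nat.add_sub_cancel]))
    · exact Or.inr (Or.inr (by rwa [hk]))
  obtain ⟨x, hx⟩ := h8
  obtain ⟨g, hg⟩ := e.surjective x
  have hog : orderOf (g : GG) = 8 := by rw [Subgroup.orderOf_coe, ← MulEquiv.orderOf_eq e, hg, hx]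
  have h4 := unipotent_four (k := 3) (g := (g : GG)) (by rw [← orderOf_dvd_iff_pow_eq_one, hog]; norm_num)
  rw [← orderOf_dvd_iff_pow_eq_one, hog] at h4
  norm_num at h4

/-- The element of the symplectic group. -/
def Core4.lift (C : Core4 P) (g : P) : Sp4 F := ⟨g, C.le g.2⟩

theorem Core4.lift_mul (C : Core4 P) (g h : P) : C.lift (g * h) = C.lift g * C.lift h := rfl

theorem Core4.lift_one (C : Core4 P) : C.lift 1 = 1 := rfl

theorem Core4.lift_injective (C : Core4 P) : Function.Injective C.lift := fun g h e =>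
  Subtype.ext (congrArg (fun z : Sp4 F => (z : GG)) e)

theorem Core4.not_psl_three_four (C : Core4 P) {K : Type} [Field K] [Fintype K] (hK : Fintype.card K = 4)
    (e : P ≃* ProjectiveSpecialLinearGroup (Fin 3) K) : False := by
  classical
  obtain ⟨w, hw0, hw1⟩ : ∃ w : K, w ≠ 0 ∧ w ≠ 1 := by
    by_contra hc
    push Not at hc
    have : Fintype.card K ≤ 2 := by
      rw [← Finset.card_univ]
      refine (Finset.card_le_card (t := {(0 : K), 1}) fun y _ => ?_).trans Finset.card_le_two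
      rcases eq_or_ne y 0 with rfl | hy
      · simp
      · simp [hc y hy]
    omega
  have hw3 : w ^ 3 = 1 := Cfsg.Agent.S2739.cube_eq_one hK hw0
  have hww : w * w ≠ 1 := fun h => hw1 (by rw [pow_succ, sq, h, one_mul] at hw3; exact hw3)
  let X : SL(3, K) := ⟨Matrix.diagonal ![1, w, w * w], by
    simp [Matrix.det_diagonal, Fin.prod_univ_three]; linear_combination hw3⟩
  let Y : SL(3, K) := ⟨!![0, 1, 0; 0, 0, 1; 1, 0, 0], by simp [Matrix.det_fin_three]⟩
  let Z : SL(3, K) := ⟨Matrix.diagonal ![w, w, w], by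
    simp [Matrix.det_diagonal, Fin.prod_univ_three]; linear_combination hw3⟩
  have hZ : Z ∈ Subgroup.center SL(3, K) := Matrix.SpecialLinearGroup.mem_center_iff.2
    ⟨w, by rw [Fintype.card_fin]; exact hw3, by ext i j; fin_cases i <;> fin_cases j <;> simp [Z, Matrix.scalar_apply]⟩
  let pr : SL(3, K) →* ProjectiveSpecialLinearGroup (Fin 3) K := QuotientGroup.mk' _
  have hne : ∀ M : SL(3, K), (M.1 0 0 ≠ M.1 1 1 ∨ ∃ i j, i ≠ j ∧ M.1 i j ≠ 0) → pr M ≠ 1 := fun M hM h => by
    obtain ⟨r, -, hr⟩ := Matrix.SpecialLinearGroup.mem_center_iff.1 ((QuotientGroup.eq_one_iff M).1 h)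
    rcases hM with hM | ⟨i, j, hij, hM⟩
    · exact hM (by rw [← hr]; simp [Matrix.scalar_apply])
    · exact hM (by rw [← hr]; simp [Matrix.scalar_apply, hij])
  have hX3 : X ^ 3 = 1 := by
    refine Subtype.ext ?_
    rw [Matrix.SpecialLinearGroup.coe_pow, Matrix.diagonal_pow]
    ext i j; fin_cases i <;> fin_cases j <;> simp [hw3, mul_pow]
  have hY3 : Y ^ 3 = 1 := by
    refine Subtype.ext ?_
    rw [Matrix.SpecialLinearGroup.coe_pow, pow_succ, sq]
    ext i j; fin_cases i <;> fin_cases j <;> simp [Y, Matrix.mul_apply, Fin.sum_univ_three]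
  have hcomm : pr X * pr Y = pr Y * pr X := by
    have h1 : Y * X = X * Y * Z := by
      refine Subtype.ext ?_
      show (Y : SL(3, K)).1 * X.1 = X.1 * Y.1 * Z.1
      ext i j
      fin_cases i <;> fin_cases j <;> simp [X, Y, Z, Matrix.mul_apply, Fin.sum_univ_three] <;>
        first
          | linear_combination hw3
          | linear_combination -(1 : K) * hw3
          | ring
    have h2 := congrArg pr h1
    rw [map_mul, map_mul, map_mul, show pr Z = 1 from (QuotientGroup.eq_one_iff Z).2 hZ, mul_one] at h2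
    exact h2.symm
  have oX : orderOf (pr X) = 3 := orderOf_eq_prime (by rw [← map_pow, hX3, map_one])
    (hne X (Or.inl (by simpa [X] using (Ne.symm hw1))))
  have oY : orderOf (pr Y) = 3 := orderOf_eq_prime (by rw [← map_pow, hY3, map_one])
    (hne Y (Or.inr ⟨0, 1, by decide, by simp [Y]⟩))
  have oXY : orderOf (pr X * pr Y) = 3 := by
    refine orderOf_eq_prime ?_ ?_
    · rw [Commute.mul_pow hcomm, ← map_pow, ← map_pow, hX3, hY3, map_one, mul_one]
    · rw [← map_mul]
      exact hne _ (Or.inr ⟨0, 1, by decide, show (X.1 * Y.1) 0 1 ≠ 0 by simp [X, Y, Matrix.mul_apply, Fin.sum_univ_three]⟩)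
  set x := C.lift (e.symm (pr X)) with hx
  set y := C.lift (e.symm (pr Y)) with hy
  have hcube : ∀ M, orderOf M = 3 → C.lift (e.symm M) * C.lift (e.symm M) * C.lift (e.symm M) = 1 ∧
      C.lift (e.symm M) ≠ 1 := fun M hM => by
    refine ⟨?_, fun h => ?_⟩
    · rw [← C.lift_mul, ← C.lift_mul, ← map_mul, ← map_mul, show M * M * M = M ^ 3 by simp [pow_succ],
        show M ^ 3 = 1 by rw [← orderOf_dvd_iff_pow_eq_one, hM], map_one, C.lift_one]
    · have h' : M = 1 := e.symm.injective ((C.lift_injective (h.trans C.lift_one.symm)).trans (map_one _).symm)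
      rw [h', orderOf_one] at hM
      omega
  have hxy : x * y = C.lift (e.symm (pr X * pr Y)) := by rw [map_mul, C.lift_mul]
  have hc : Commute x y := by
    show x * y = y * x
    rw [hxy, hcomm, map_mul, C.lift_mul]
  have hne' : x ≠ y := fun h => by
    have h' : pr X = pr Y := e.symm.injective (C.lift_injective h)
    refine hne (X * Y⁻¹) (Or.inr ⟨0, 2, by decide, ?_⟩) (by rw [map_mul, map_inv, h', mul_inv_cancel])
    have hYi : Y⁻¹ = Y * Y := inv_eq_of_mul_eq_one_left (by rw [← hY3]; simp [pow_succ])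
    rw [hYi]
    show (X.1 * (Y.1 * Y.1)) 0 2 ≠ 0
    simp [X, Y, Matrix.mul_apply, Fin.sum_univ_three]
  have hsame : ∀ M N, orderOf M = 3 → orderOf N = 3 → HasFix (C.lift (e.symm M)) → HasFix (C.lift (e.symm N)) := by
    intro M N hM hN h
    obtain ⟨c, hc⟩ := isConj_iff.1 (Cfsg.Agent.S2739.isConj_of_order_three hK M N hM hN)
    rw [← hc, map_mul, map_mul, map_inv, C.lift_mul, C.lift_mul]
    exact h.conj (c := C.lift (e.symm c))
  by_cases hfx : HasFix x
  · exact not_all_fix hc (hcube _ oX).1 (hcube _ oY).1 hne' (hcube _ oX).2 (hcube _ oY).2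
      (by rw [hxy]; exact (hcube _ oXY).2) hfx (hsame _ _ oX oY hfx) (by rw [hxy]; exact hsame _ _ oX oXY hfx)
  · exact not_all_free hc (hcube _ oX).1 (hcube _ oY).1 hne' hfx (fun h => hfx (hsame _ _ oY oX h))
      (fun h => hfx (hsame _ _ oXY oX (hxy ▸ h)))

theorem six_witness :
    (∀ x ∈ ([Equiv.swap 0 1 * Equiv.swap 1 2, Equiv.swap 3 4 * Equiv.swap 4 5] : List (Equiv.Perm (Fin 6))),
      (x * (Equiv.swap 0 3 * Equiv.swap 1 4)) ^ 5 = 1 ∧ x * (Equiv.swap 0 3 * Equiv.swap 1 4) ≠ 1) ∧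
    (Equiv.swap (0 : Fin 6) 1 * Equiv.swap 1 2 * (Equiv.swap 3 4 * Equiv.swap 4 5) *
        (Equiv.swap 0 1 * Equiv.swap 2 3)) ^ 5 = 1 ∧
    Equiv.swap (0 : Fin 6) 1 * Equiv.swap 1 2 * (Equiv.swap 3 4 * Equiv.swap 4 5) *
        (Equiv.swap 0 1 * Equiv.swap 2 3) ≠ 1 := by
  decide +kernel

theorem Core4.not_psl_nine (C : Core4 P) (h4 : 4 ≤ Nat.card F) {K : Type} [Field K] [Fintype K]
    (hK : Fintype.card K = 9) (e : P ≃* ProjectiveSpecialLinearGroup (Fin 2) K) : False := by
  classical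
  haveI := C.simple
  have h360 : Nat.card P = 360 := by
    rw [Nat.card_congr e.toEquiv]
    have := Cfsg.Lib.Classical.SmallPSL.card_psl (F := K) hK
    rw [show Nat.gcd 2 (9 - 1) = 2 from rfl] at this
    omega
  obtain ⟨i⟩ := Cfsg.Agent.S0497.result h360
  haveI : Fintype F := Fintype.ofFinite F
  obtain ⟨f, -, hf⟩ := FiniteField.card F 2
  have hfive : ∀ g : P, g ^ 5 = 1 → g ≠ 1 → tr4 (g : GG) * tr4 (g : GG) ≠ tr4 (g : GG) := by
    intro g hg hg1 ht
    haveI : Fact (Nat.Prime 5) := ⟨by norm_num⟩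
    refine C.one_lt (f := f) (by rw [Nat.card_eq_fintype_card, hf]) h4 fun a ha => ?_
    rcases alt_six_orders (i ⟨a, ha⟩) with h | h | h <;> rw [← map_pow, MulEquiv.map_eq_one_iff] at h
    · exact tr4_three (C.le ha) (congrArg Subtype.val h)
    · exact tr4_two (congrArg Subtype.val h)
    -- all elements of order five are conjugate to powers of one
    obtain ⟨S, hS⟩ := (IsPGroup.of_card (n := 1)
      (by rw [Nat.card_zpowers, orderOf_eq_prime hg hg1, pow_one]) : IsPGroup 5 (Subgroup.zpowers g)).exists_le_sylow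
    have hcard : Nat.card S = 5 := by
      rw [Sylow.card_eq_multiplicity, h360, show (360 : ℕ).factorization 5 = 1 by
        rw [show (360 : ℕ) = 5 ^ 1 * 72 from rfl, Nat.factorization_mul (by norm_num) (by norm_num),
          Nat.Prime.factorization_pow (by norm_num)]
        simp [Nat.factorization_eq_zero_of_not_dvd (show ¬ 5 ∣ 72 by norm_num)], pow_one]
    have hSz : (S : Subgroup P) = Subgroup.zpowers g := (Subgroup.eq_of_le_of_card_ge hS
      (by rw [hcard, Nat.card_zpowers, orderOf_eq_prime hg hg1])).symm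
    rcases eq_or_ne (⟨a, ha⟩ : P) 1 with h1 | h1
    · rw [show a = 1 from congrArg Subtype.val h1, tr4_one, mul_zero]
    obtain ⟨T, hT⟩ := (IsPGroup.of_card (n := 1)
      (by rw [Nat.card_zpowers, orderOf_eq_prime h h1, pow_one]) :
        IsPGroup 5 (Subgroup.zpowers (⟨a, ha⟩ : P))).exists_le_sylow
    obtain ⟨c, hc⟩ := MulAction.exists_smul_eq P T S
    have hmem : c * ⟨a, ha⟩ * c⁻¹ ∈ Subgroup.zpowers g := by
      rw [← hSz, ← hc]
      exact Subgroup.smul_mem_pointwise_smul _ (MulAut.conj c) _ (hT (Subgroup.mem_zpowers _))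
    obtain ⟨j, hj⟩ := (isOfFinOrder_of_finite g).mem_powers_iff_mem_zpowers.2 hmem
    have hja : tr4 a = tr4 (((g : P) : GG) ^ j) := by
      rw [← SubmonoidClass.coe_pow, show g ^ j = c * ⟨a, ha⟩ * c⁻¹ from hj]
      exact (tr4_conj (c : GG) a).symm
    rw [hja, show ((g : P) : GG) ^ j = ((g : P) : GG) ^ (j % 5) by
      rw [← SubmonoidClass.coe_pow, ← SubmonoidClass.coe_pow, pow_eq_pow_mod j hg]]
    set t := tr4 (g : GG) with htd
    have e2 : tr4 ((g : GG) ^ 2) = t ^ 2 := by rw [sq, tr4_sq]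
    have hinv : ((g : GG))⁻¹ = (g : GG) ^ 4 := by
      refine inv_eq_of_mul_eq_one_left ?_
      rw [← pow_succ, ← SubmonoidClass.coe_pow, hg, Subgroup.coe_one]
    have e4 : tr4 ((g : GG) ^ 4) = t := by rw [← hinv, tr4_inv (C.le g.2)]
    have e3 : tr4 ((g : GG) ^ 3) = t ^ 2 := by
      have : ((g : GG) ^ 2)⁻¹ = (g : GG) ^ 3 := inv_eq_of_mul_eq_one_left (by
        rw [← pow_add, ← SubmonoidClass.coe_pow, hg, Subgroup.coe_one])
      rw [← this, tr4_inv (pow_mem (C.le g.2) 2), e2]
    have hlt : j % 5 < 5 := Nat.mod_lt _ (by norm_num)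
    have ht2 : t ^ 2 = t := by rw [sq]; exact ht
    interval_cases j % 5
    · rw [pow_zero, tr4_one, mul_zero]
    · rw [pow_one]; exact ht
    · rw [e2, ht2]; exact ht
    · rw [e3, ht2]; exact ht
    · rw [e4]; exact ht
  have hfix5 : ∀ g : P, g ^ 5 = 1 → g ≠ 1 → HasFix (C.lift g) := by
    intro g hg hg1
    by_contra hf'
    refine hfive g hg hg1 (free_five (g := C.lift g)
      (Subtype.ext (congrArg (fun z : P => (z : GG)) hg)) hf' ?_)
    have h' : ((g : GG) ^ 4) = (g : GG)⁻¹ := by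
      refine (inv_eq_of_mul_eq_one_left ?_).symm
      rw [← pow_succ, ← SubmonoidClass.coe_pow, hg, Subgroup.coe_one]
    show tr4 (g : GG) ^ 4 = tr4 (g : GG)
    calc tr4 (g : GG) ^ 4 = tr4 ((g : GG) ^ 2 ^ 2) := (tr4_pow (g : GG) 2).symm
      _ = tr4 (g : GG) := (congrArg tr4 h').trans (tr4_inv (C.le g.2))
  obtain ⟨hw12, hz5, hz1⟩ := six_witness
  let a : alternatingGroup (Fin 6) := ⟨Equiv.swap 0 1 * Equiv.swap 1 2,
    Equiv.Perm.mem_alternatingGroup.2 (by decide +kernel)⟩
  let b : alternatingGroup (Fin 6) := ⟨Equiv.swap 3 4 * Equiv.swap 4 5,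
    Equiv.Perm.mem_alternatingGroup.2 (by decide +kernel)⟩
  let w : alternatingGroup (Fin 6) := ⟨Equiv.swap 0 3 * Equiv.swap 1 4,
    Equiv.Perm.mem_alternatingGroup.2 (by decide +kernel)⟩
  let w' : alternatingGroup (Fin 6) := ⟨Equiv.swap 0 1 * Equiv.swap 2 3,
    Equiv.Perm.mem_alternatingGroup.2 (by decide +kernel)⟩
  have hthree : ∀ s v : alternatingGroup (Fin 6), s ^ 3 = 1 → v ^ 2 = 1 → (s * v) ^ 5 = 1 → s * v ≠ 1 →
      HasFix (C.lift (i.symm s)) := by
    intro s v hs hv h5 h1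
    have hne : i.symm (s * v) ≠ 1 := fun h => h1 (i.symm.injective (h.trans (map_one _).symm))
    have hf' := hfix5 (i.symm (s * v)) (by rw [← map_pow, h5, map_one]) hne
    have e5 : (C.lift (i.symm s) * C.lift (i.symm v)) ^ 5 = 1 := by
      rw [← C.lift_mul, ← map_mul]
      exact Subtype.ext (congrArg (fun z : P => (z : GG)) (show i.symm (s * v) ^ 5 = 1 by rw [← map_pow, h5, map_one]))
    refine fix_of_product ?_ ?_ e5 ?_ (by rwa [← C.lift_mul, ← map_mul])
    · rw [← C.lift_mul, ← C.lift_mul, ← map_mul, ← map_mul, show s * s * s = s ^ 3 by simp [pow_succ], hs, map_one,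
        C.lift_one]
    · rw [← C.lift_mul, ← map_mul, ← sq, hv, map_one, C.lift_one]
    · rw [← C.lift_mul, ← map_mul, ← C.lift_one]
      exact fun h => hne (C.lift_injective h)
  have ha3 : a ^ 3 = 1 := by decide +kernel
  have hb3 : b ^ 3 = 1 := by decide +kernel
  have hab3 : (a * b) ^ 3 = 1 := by decide +kernel
  have fa : HasFix (C.lift (i.symm a)) := hthree a w ha3 (by decide +kernel)
    (Subtype.ext (by simpa using (hw12 (Equiv.swap 0 1 * Equiv.swap 1 2) (by simp)).1)) (fun h => (hw12 _ (List.mem_cons_self ..)).2 (congrArg Subtype.val h))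
  have fb : HasFix (C.lift (i.symm b)) := hthree b w hb3 (by decide +kernel)
    (Subtype.ext (by simpa using (hw12 (Equiv.swap 3 4 * Equiv.swap 4 5) (by simp)).1))
    (fun h => (hw12 _ (List.mem_cons_of_mem _ (List.mem_singleton_self _))).2 (congrArg Subtype.val h))
  have fab : HasFix (C.lift (i.symm (a * b))) := hthree (a * b) w' hab3 (by decide +kernel)
    (Subtype.ext (by simpa using hz5)) (fun h => hz1 (congrArg Subtype.val h))
  have hmul : C.lift (i.symm a) * C.lift (i.symm b) = C.lift (i.symm (a * b)) := by rw [map_mul, C.lift_mul]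
  have hcube : ∀ s : alternatingGroup (Fin 6), s ^ 3 = 1 → s ≠ 1 →
      C.lift (i.symm s) * C.lift (i.symm s) * C.lift (i.symm s) = 1 ∧ C.lift (i.symm s) ≠ 1 := fun s hs h1 =>
    ⟨by rw [← C.lift_mul, ← C.lift_mul, ← map_mul, ← map_mul, show s * s * s = s ^ 3 by simp [pow_succ], hs, map_one,
      C.lift_one], fun h => h1 (i.symm.injective ((C.lift_injective (h.trans C.lift_one.symm)).trans (map_one _).symm))⟩
  have hab : a * b = b * a := by decide +kernel
  refine not_all_fix (x := C.lift (i.symm a)) (y := C.lift (i.symm b)) ?_ (hcube a ha3 (by decide +kernel)).1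
    (hcube b hb3 (by decide +kernel)).1 (fun h => ?_) (hcube a ha3 (by decide +kernel)).2
    (hcube b hb3 (by decide +kernel)).2 (by rw [hmul]; exact (hcube _ hab3 (by decide +kernel)).2) fa fb
    (by rw [hmul]; exact fab)
  · show _ * _ = _ * _
    rw [hmul, hab, map_mul, C.lift_mul]
  · exact absurd (i.symm.injective (C.lift_injective h)) (by decide +kernel)

end Cfsg.Lib.SpFourResidual
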