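import Cfsg.Agent.SpFourResidual.Invol
import Cfsg.Prelude.Def_LieExceptional

/-!
The exceptional endomorphism of the symplectic group in four dimensions in characteristic two.
-/

set_option autoImplicit false
set_option linter.unusedSectionVars false
set_option linter.style.haveILetI false
set_option maxHeartbeats 1000000

namespace Cfsg.Lib.SpFourResidual

open Matrix Cfsg.Lie
open scoped MatrixGroups

universe u

variable {F : Type u} [Field F]

local notation "MM" => Matrix (Fin 4) (Fin 4) F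
local notation "GG" => GL (Fin 4) F
local notation "VV" => (Fin 4 → F)

theorem alt_eq_dot (u v : VV) : altForm4 u v = u ⬝ᵥ Cfsg.suzukiForm F *ᵥ v := by
  simp [altForm4, Cfsg.suzukiForm, dotProduct, Matrix.mulVec, Fin.sum_univ_four]

theorem col_rel {g : GG} (hg : g ∈ Sp4 F) (i j : Fin 4) :
    altForm4 (fun a => (g : MM) a i) (fun a => (g : MM) a j) = Cfsg.suzukiForm F i j := by
  have h := mem_Sp4.1 hg (Pi.single i 1) (Pi.single j 1)
  rw [mulVec_single_one, mulVec_single_one, alt_eq_dot (Pi.single i 1), single_one_dotProduct, mulVec_single_one] at h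
  exact h

theorem mat_col {g : GG} (hg : g ∈ Sp4 F) : (g : MM)ᵀ * Cfsg.suzukiForm F * (g : MM) = Cfsg.suzukiForm F := by
  ext i j
  rw [← col_rel hg i j, alt_eq_dot, Matrix.mul_assoc, Matrix.mul_apply]
  simp [dotProduct, Matrix.mulVec, Matrix.mul_apply, Matrix.transpose_apply]

theorem form_sq : Cfsg.suzukiForm F * Cfsg.suzukiForm F = 1 := by
  ext i j
  fin_cases i <;> fin_cases j <;> simp [Cfsg.suzukiForm, Matrix.mul_apply, Fin.sum_univ_four]

theorem mat_inv {g : GG} (hg : g ∈ Sp4 F) :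
    ((g⁻¹ : GG) : MM) = Cfsg.suzukiForm F * (g : MM)ᵀ * Cfsg.suzukiForm F := by
  have h1 : (Cfsg.suzukiForm F * (g : MM)ᵀ * Cfsg.suzukiForm F) * (g : MM) = 1 := by
    rw [show Cfsg.suzukiForm F * (g : MM)ᵀ * Cfsg.suzukiForm F * (g : MM) =
      Cfsg.suzukiForm F * ((g : MM)ᵀ * Cfsg.suzukiForm F * (g : MM)) by simp only [mul_assoc], mat_col hg, form_sq]
  calc ((g⁻¹ : GG) : MM)
      = (Cfsg.suzukiForm F * (g : MM)ᵀ * Cfsg.suzukiForm F) * (g : MM) * ((g⁻¹ : GG) : MM) := by rw [h1, one_mul]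
    _ = _ := by rw [mul_assoc, ← Units.val_mul, mul_inv_cancel, Units.val_one, mul_one]

theorem row_rel {g : GG} (hg : g ∈ Sp4 F) (k l : Fin 4) :
    altForm4 (fun a => (g : MM) k a) (fun a => (g : MM) l a) = Cfsg.suzukiForm F k l := by
  have h : (g : MM) * ((g⁻¹ : GG) : MM) * Cfsg.suzukiForm F = Cfsg.suzukiForm F := by
    rw [← Units.val_mul, mul_inv_cancel, Units.val_one, one_mul]
  rw [mat_inv hg, show (g : MM) * (Cfsg.suzukiForm F * (g : MM)ᵀ * Cfsg.suzukiForm F) * Cfsg.suzukiForm F =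
    (g : MM) * Cfsg.suzukiForm F * (g : MM)ᵀ * (Cfsg.suzukiForm F * Cfsg.suzukiForm F) by simp only [mul_assoc],
    form_sq, mul_one] at h
  have := congrFun (congrFun h k) l
  rw [alt_eq_dot, ← this, Matrix.mul_assoc, Matrix.mul_apply]
  simp [dotProduct, Matrix.mulVec, Matrix.mul_apply, Matrix.transpose_apply]

variable [CharP F 2]

theorem star_mul {g h : GG} (hg : g ∈ Sp4 F) (hh : h ∈ Sp4 F) :
    star4 ((g : MM) * (h : MM)) = star4 (g : MM) * star4 (h : MM) := by
  have h2 : (2 : F) = 0 := CharP.cast_eq_zero F 2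
  set X : MM := (g : MM) with hX
  set Y : MM := (h : MM) with hY
  have rows : ∀ k l, X k 0 * X l 3 + X k 1 * X l 2 + X k 2 * X l 1 + X k 3 * X l 0 = Cfsg.suzukiForm F k l :=
    fun k l => row_rel hg k l
  have cols : ∀ i j, Y 0 i * Y 3 j + Y 1 i * Y 2 j + Y 2 i * Y 1 j + Y 3 i * Y 0 j = Cfsg.suzukiForm F i j :=
    fun i j => col_rel hh i j
  have main : ∀ k l i j, Cfsg.suzukiForm F k l = 0 → Cfsg.suzukiForm F i j = 0 →
      (X * Y) k i * (X * Y) l j - (X * Y) l i * (X * Y) k j =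
        (X k 0 * X l 1 - X l 0 * X k 1) * (Y 0 i * Y 1 j - Y 1 i * Y 0 j) +
        (X k 0 * X l 2 - X l 0 * X k 2) * (Y 0 i * Y 2 j - Y 2 i * Y 0 j) +
        (X k 1 * X l 3 - X l 1 * X k 3) * (Y 1 i * Y 3 j - Y 3 i * Y 1 j) +
        (X k 2 * X l 3 - X l 2 * X k 3) * (Y 2 i * Y 3 j - Y 3 i * Y 2 j) := by
    intro k l i j hkl hij
    have e1 := rows k l
    have e2 := cols i j
    rw [hkl] at e1
    rw [hij] at e2
    simp only [Matrix.mul_apply, Fin.sum_univ_four]
    linear_combination (X k 0 * X l 3 - X l 0 * X k 3) * e2 + (Y 1 i * Y 2 j - Y 2 i * Y 1 j) * e1 -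
      ((X k 0 * X l 3 - X l 0 * X k 3) * (Y 2 i * Y 1 j + Y 3 i * Y 0 j) +
        (X k 2 * X l 1 + X k 3 * X l 0) * (Y 1 i * Y 2 j - Y 2 i * Y 1 j) +
        (X k 0 * X l 3 - X l 0 * X k 3) * (Y 1 i * Y 2 j - Y 2 i * Y 1 j)) * h2
  ext p r
  simp only [star4, Matrix.mul_apply (M := Matrix.of _), Matrix.of_apply, Fin.sum_univ_four]
  refine (main _ _ _ _ ?_ ?_).trans ?_
  · fin_cases p <;> simp [pairOf, Cfsg.suzukiForm]
  · fin_cases r <;> simp [pairOf, Cfsg.suzukiForm]
  · simp [pairOf]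

theorem star_one : star4 (1 : MM) = 1 := by
  ext p r
  fin_cases p <;> fin_cases r <;> simp [star4, pairOf, Matrix.one_apply]

/-- The image as a unit. -/
def starGL (g : Sp4 F) : GL (Fin 4) F where
  val := star4 ((g : GG) : MM)
  inv := star4 (((g⁻¹ : Sp4 F) : GG) : MM)
  val_inv := by rw [← star_mul g.2 (g⁻¹).2, ← Units.val_mul, ← Subgroup.coe_mul, mul_inv_cancel,
    Subgroup.coe_one, Units.val_one, star_one]
  inv_val := by rw [← star_mul (g⁻¹).2 g.2, ← Units.val_mul, ← Subgroup.coe_mul, inv_mul_cancel,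
    Subgroup.coe_one, Units.val_one, star_one]

/-- The endomorphism. -/
def starHom : Sp4 F →* GL (Fin 4) F where
  toFun := starGL
  map_one' := Units.ext (by simp [starGL, star_one])
  map_mul' g h := Units.ext (by simp [starGL, star_mul g.2 h.2])

theorem starHom_coe (g : Sp4 F) : ((starHom g : GG) : MM) = star4 ((g : GG) : MM) := rfl

theorem det_expansion (u v w : VV) (k l l' a : Fin 4)
    (h : (k, l, l', a) ∈ ({(0, 1, 2, 0), (1, 0, 3, 1), (2, 0, 3, 2), (3, 1, 2, 3)} : Set (Fin 4 × Fin 4 × Fin 4 × Fin 4))) :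
    (u k * v l - u l * v k) * (u k * w l' - u l' * w k) - (u k * v l' - u l' * v k) * (u k * w l - u l * w k) =
      u k * (altForm4 v w * u a + altForm4 u v * w a + altForm4 u w * v a) := by
  have h2 : (2 : F) = 0 := CharP.cast_eq_zero F 2
  simp only [Set.mem_insert_iff, Set.mem_singleton_iff, Prod.mk.injEq] at h
  rcases h with ⟨rfl, rfl, rfl, rfl⟩ | ⟨rfl, rfl, rfl, rfl⟩ | ⟨rfl, rfl, rfl, rfl⟩ | ⟨rfl, rfl, rfl, rfl⟩ <;>
    simp only [altForm4] <;> ring_nf <;> simp [h2, CharTwo.neg_eq, CharTwo.sub_eq_add] <;> ring_nf <;> simp [h2]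

theorem star_star {g : GG} (hg : g ∈ Sp4 F) : star4 (star4 (g : MM)) = (g : MM).map (fun x => x ^ 2) := by
  set X : MM := (g : MM) with hX
  have key : ∀ k l l' a i j j', (k, l, l', a) ∈
      ({(0, 1, 2, 0), (1, 0, 3, 1), (2, 0, 3, 2), (3, 1, 2, 3)} : Set (Fin 4 × Fin 4 × Fin 4 × Fin 4)) →
      Cfsg.suzukiForm F i j = 0 → Cfsg.suzukiForm F i j' = 0 → Cfsg.suzukiForm F j j' = 1 →
      (X k i * X l j - X l i * X k j) * (X k i * X l' j' - X l' i * X k j') -
        (X k i * X l' j - X l' i * X k j) * (X k i * X l j' - X l i * X k j') = X k i * X a i := by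
    intro k l l' a i j j' hmem h1 h2 h3
    have h := det_expansion (fun x => X x i) (fun x => X x j) (fun x => X x j') k l l' a hmem
    rw [col_rel hg, col_rel hg, col_rel hg, h1, h2, h3] at h
    rw [h]
    ring
  ext p r
  have hh := key p (![1, 0, 0, 1] p) (![2, 3, 3, 2] p) p r (![1, 0, 0, 1] r) (![2, 3, 3, 2] r)
    (by fin_cases p <;> simp) (by fin_cases r <;> simp [Cfsg.suzukiForm]) (by fin_cases r <;> simp [Cfsg.suzukiForm])
    (by fin_cases r <;> simp [Cfsg.suzukiForm])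
  simp only [Matrix.map_apply, pow_two]
  fin_cases p <;> fin_cases r <;> simp [star4, pairOf, CharTwo.sub_eq_add] at hh ⊢ <;> linear_combination hh

theorem flip_apply (M : MM) (i j : Fin 4) :
    (Cfsg.suzukiForm F * Mᵀ * Cfsg.suzukiForm F) i j = M (3 - j) (3 - i) := by
  fin_cases i <;> fin_cases j <;>
    simp [Cfsg.suzukiForm, Matrix.mul_apply, Fin.sum_univ_four, Matrix.vecMul, dotProduct]

theorem mem_of_mat {g : GG} (h : (g : MM)ᵀ * Cfsg.suzukiForm F * (g : MM) = Cfsg.suzukiForm F) : g ∈ Sp4 F := by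
  refine mem_Sp4.2 fun u v => ?_
  rw [alt_eq_dot, alt_eq_dot, Matrix.mulVec_mulVec, Matrix.dotProduct_mulVec, Matrix.dotProduct_mulVec,
    ← Matrix.vecMul_transpose, Matrix.vecMul_vecMul, ← mul_assoc, h]

theorem starHom_mem (g : Sp4 F) : starHom g ∈ Sp4 F := by
  have hflip : star4 (((g⁻¹ : Sp4 F) : GG) : MM) =
      Cfsg.suzukiForm F * (star4 ((g : GG) : MM))ᵀ * Cfsg.suzukiForm F := by
    rw [show ((g⁻¹ : Sp4 F) : GG) = (g : GG)⁻¹ from rfl, mat_inv g.2]
    ext p r
    rw [flip_apply]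
    simp only [star4, Matrix.of_apply, flip_apply]
    fin_cases p <;> fin_cases r <;> simp [pairOf, CharTwo.sub_eq_add] <;> ring
  refine mem_of_mat ?_
  rw [starHom_coe]
  calc (star4 ((g : GG) : MM))ᵀ * Cfsg.suzukiForm F * star4 ((g : GG) : MM)
      = Cfsg.suzukiForm F * (star4 (((g⁻¹ : Sp4 F) : GG) : MM) * star4 ((g : GG) : MM)) := by
        rw [hflip]
        simp only [← mul_assoc, form_sq, one_mul]
    _ = Cfsg.suzukiForm F := by
        rw [← star_mul (g⁻¹).2 g.2, ← Units.val_mul, ← Subgroup.coe_mul, inv_mul_cancel, Subgroup.coe_one,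
          Units.val_one, star_one, mul_one]

theorem starHom_injective : Function.Injective (starHom : Sp4 F →* GG) := by
  intro g h e
  have e' := congrArg (fun M => star4 M) (congrArg Units.val e)
  simp only [starHom_coe, star_star g.2, star_star h.2] at e'
  refine Subtype.ext (Units.ext (Matrix.ext fun i j => ?_))
  have h1 := congrFun (congrFun e' i) j
  simp only [Matrix.map_apply] at h1
  haveI : Fact (Nat.Prime 2) := ⟨Nat.prime_two⟩
  exact frobenius_inj F 2 (by simpa [frobenius_def] using h1)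

/-- An involution of alternating kind goes to a transvection. -/
theorem star_alt {g : GG} {p q : VV} (hpq : altForm4 p q = 0)
    (hv : ∀ v, (g : MM) *ᵥ v = v + (altForm4 q v • p + altForm4 p v • q)) :
    ∃ x φ : Fin 4 → F, star4 (g : MM) = 1 + Matrix.vecMulVec x φ := by
  have h2 : (2 : F) = 0 := CharP.cast_eq_zero F 2
  refine ⟨fun a => p (pairOf a).1 * q (pairOf a).2 + p (pairOf a).2 * q (pairOf a).1,
    fun b => dualVec p (pairOf b).1 * dualVec q (pairOf b).2 + dualVec p (pairOf b).2 * dualVec q (pairOf b).1, ?_⟩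
  have he : ∀ i j, (g : MM) i j = (1 : MM) i j + (p i * dualVec q j + q i * dualVec p j) := fun i j => by
    have := congrFun (hv (Pi.single j 1)) i
    rw [mulVec_single_one] at this
    simp only [Pi.add_apply, Pi.smul_apply, smul_eq_mul, Pi.single_apply, Matrix.col_apply] at this
    rw [show altForm4 q (Pi.single j 1) = dualVec q j by fin_cases j <;> simp [altForm4, dualVec],
      show altForm4 p (Pi.single j 1) = dualVec p j by fin_cases j <;> simp [altForm4, dualVec]] at this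
    rw [Matrix.one_apply]
    linear_combination this
  simp only [altForm4] at hpq
  have h4 : (4 : F) = 0 := by linear_combination 2 * h2
  ext a b
  fin_cases a <;> fin_cases b <;>
    simp [star4, pairOf, he, dualVec, vecMulVec_apply, Matrix.one_apply, CharTwo.sub_eq_add] <;>
    first
      | (ring_nf; done)
      | linear_combination (norm := (ring_nf; (try simp [h2, h4]); done)) (0 : F) * hpq
      | linear_combination (norm := (ring_nf; (try simp [h2, h4]); done)) hpq
      | skip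

/-- Realisability comes back from the image. -/
theorem realisable_of_star [Finite F] {P : Subgroup (GL (Fin 4) F)} (hP : P ≤ Sp4 F) {k : Subfield F}
    {h : GL (Fin 4) F} (hh : h ∈ Sp4 F)
    (hk : ∀ g (hg : g ∈ P), ∀ i j, ((h * starHom ⟨g, hP hg⟩ * h⁻¹ : GG) : MM) i j ∈ k) :
    ∃ B : GL (Fin 4) F, ∀ g ∈ P, ∀ i j, ((B : MM) * (g : MM) * ((B⁻¹ : GG) : MM)) i j ∈ k := by
  haveI : Fact (Nat.Prime 2) := ⟨Nat.prime_two⟩
  let σ : F ≃+* F := RingEquiv.ofBijective (frobenius F 2) ⟨frobenius_inj F 2,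
    Finite.surjective_of_injective (frobenius_inj F 2)⟩
  let S := starHom ⟨h, hh⟩
  refine ⟨Matrix.GeneralLinearGroup.map σ.symm.toRingHom S, fun g hg i j => ?_⟩
  set t : Sp4 F := ⟨h, hh⟩ * ⟨_, starHom_mem ⟨g, hP hg⟩⟩ * ⟨h, hh⟩⁻¹ with ht
  have hmem : ∀ i j, (starHom t : MM) i j ∈ k := fun i j => by
    have hM : ∀ i j, ((t : GG) : MM) i j ∈ k := hk g hg
    rw [starHom_coe]
    exact k.sub_mem (k.mul_mem (hM _ _) (hM _ _)) (k.mul_mem (hM _ _) (hM _ _))
  have e : starHom t = S * starHom ⟨_, starHom_mem ⟨g, hP hg⟩⟩ * S⁻¹ := by rw [ht, map_mul, map_mul, map_inv]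
  set X := (((Matrix.GeneralLinearGroup.map σ.symm.toRingHom S : GG)) : MM) * (g : MM) *
      (((Matrix.GeneralLinearGroup.map σ.symm.toRingHom S)⁻¹ : GG) : MM) with hX
  have hsq : σ (X i j) ∈ k := by
    have h1 : (X.map σ) = (starHom t : MM) := by
      rw [hX, e, Matrix.map_mul, Matrix.map_mul, ← map_inv, Units.val_mul, Units.val_mul,
        starHom_coe (⟨_, starHom_mem ⟨g, hP hg⟩⟩ : Sp4 F),
        show star4 ((starHom ⟨g, hP hg⟩ : GG) : MM) = ((g : MM)).map (fun x => x ^ 2) from star_star (hP hg)]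
      congr 1
      congr 1
      · ext a b; exact σ.apply_symm_apply _
      · ext a b; exact σ.apply_symm_apply _
    have := hmem i j
    rw [← h1] at this
    exact this
  let ψ : k → k := fun x => ⟨(x : F) ^ 2, k.pow_mem x.2 2⟩
  have hψ : Function.Injective ψ := fun x y e =>
    Subtype.ext (frobenius_inj F 2 (by simpa [ψ, frobenius_def] using congrArg Subtype.val e))
  obtain ⟨x, hx⟩ := Finite.surjective_of_injective hψ ⟨_, hsq⟩
  have : (x : F) = X i j := frobenius_inj F 2 (congrArg Subtype.val hx)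
  exact this ▸ x.2

end Cfsg.Lib.SpFourResidual
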