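import Cfsg.Agent.SpFourResidual.Star
import Cfsg.Agent.MitchellThree.Residual.Trace
import Mathlib.FieldTheory.Finite.GaloisField

/-!
The socle setting in four dimensions and the traces of its elements.
-/

set_option autoImplicit false
set_option linter.unusedSectionVars false
set_option linter.style.haveILetI false

namespace Cfsg.Lib.SpFourResidual

open Matrix Cfsg.Lie Cfsg.Geo
open scoped MatrixGroups

universe u

variable {F : Type u} [Field F]

local notation "MM" => Matrix (Fin 4) (Fin 4) F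
local notation "GG" => GL (Fin 4) F

/-- The socle of a member of the residual class. -/
structure Core4 (P : Subgroup (GL (Fin 4) F)) : Prop where
  le : P ≤ Sp4 F
  simple : IsSimpleGroup P
  nonabelian : ¬ IsMulCommutative P
  absIrred : ActsAbsolutelyIrreducibly (matrixSet P)
  no_subfield : ∀ F₀ : Subfield F, F₀ ≠ ⊤ → ¬ RealisableOver F₀ (matrixSet P)
  no_quad : ¬ ∃ Q : (Fin 4 → F) → F, IsNondegenerateQuadraticForm Q ∧ FixesQuadForm (matrixSet P) Q
  proper : P ≠ Sp4 F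

/-- The trace. -/
def tr4 (g : GL (Fin 4) F) : F := (g : Matrix (Fin 4) (Fin 4) F).trace

theorem tr4_conj (h g : GG) : tr4 (h * g * h⁻¹) = tr4 g := by
  simp only [tr4, Units.val_mul]
  exact Matrix.trace_units_conj h (g : MM)

variable [CharP F 2]

theorem tr4_one : tr4 (1 : GG) = 0 := by
  rw [tr4, Units.val_one, Matrix.trace_one, Fintype.card_fin]
  exact_mod_cast (CharP.cast_eq_zero_iff F 2 4).2 (by norm_num)

theorem tr4_inv {g : GG} (hg : g ∈ Sp4 F) : tr4 g⁻¹ = tr4 g := by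
  rw [tr4, tr4, mat_inv hg]
  simp only [Matrix.trace, Matrix.diag_apply, flip_apply, Fin.sum_univ_four]
  rw [show (3 : Fin 4) - 0 = 3 from rfl, show (3 : Fin 4) - 1 = 2 from rfl, show (3 : Fin 4) - 2 = 1 from rfl,
    show (3 : Fin 4) - 3 = 0 from rfl]
  ring

theorem tr4_sq (g : GG) : tr4 (g * g) = tr4 g ^ 2 := by
  have h2 : (2 : F) = 0 := CharP.cast_eq_zero F 2
  simp only [tr4, Units.val_mul, Matrix.trace, Matrix.diag_apply, Matrix.mul_apply, Fin.sum_univ_four]
  set M : MM := (g : MM)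
  linear_combination (M 0 1 * M 1 0 + M 0 2 * M 2 0 + M 0 3 * M 3 0 + M 1 2 * M 2 1 + M 1 3 * M 3 1 + M 2 3 * M 3 2 -
    (M 0 0 * M 1 1 + M 0 0 * M 2 2 + M 0 0 * M 3 3 + M 1 1 * M 2 2 + M 1 1 * M 3 3 + M 2 2 * M 3 3)) * h2

theorem tr4_pow (g : GG) (k : ℕ) : tr4 (g ^ 2 ^ k) = tr4 g ^ 2 ^ k := by
  induction k with
  | zero => simp
  | succ k ih => rw [pow_succ, pow_mul, pow_two, tr4_sq, ih, ← pow_mul]

theorem tr4_unipotent {g : GG} {k : ℕ} (h : g ^ 2 ^ k = 1) : tr4 g = 0 := by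
  have h1 := tr4_pow g k
  rw [h, tr4_one] at h1
  exact pow_eq_zero_iff (pow_ne_zero k two_ne_zero) |>.1 h1.symm

/-- An element conjugate to its power by a power of two, or to the inverse of that power, has a small trace. -/
theorem tr4_fixed {g : GG} (hg : g ∈ Sp4 F) {k : ℕ} {c : GG}
    (h : c * g * c⁻¹ = g ^ 2 ^ k ∨ c * g⁻¹ * c⁻¹ = g ^ 2 ^ k) : tr4 g ^ 2 ^ k = tr4 g := by
  rw [← tr4_pow]
  rcases h with h | h <;> rw [← h, tr4_conj]
  exact tr4_inv hg

variable [Finite F] {P : Subgroup (GL (Fin 4) F)}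

/-- A bound on the field from the traces. -/
theorem Core4.dvd_of_traces (C : Core4 P) {f e : ℕ} (hf : Nat.card F = 2 ^ f)
    (h : ∀ g ∈ P, tr4 g ^ 2 ^ e = tr4 g) : f ∣ e := by
  classical
  haveI : Fintype F := Fintype.ofFinite F
  haveI : Fact (Nat.Prime 2) := ⟨Nat.prime_two⟩
  let F₀ : Subfield F := RingHom.eqLocusField (iterateFrobenius F 2 e) (RingHom.id F)
  have hF₀ : ∀ x, x ∈ F₀ ↔ x ^ 2 ^ e = x := fun x => by
    show iterateFrobenius F 2 e x = x ↔ _
    rw [iterateFrobenius_def]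
  have htop := Cfsg.Lib.MitchellThree.Residual.eq_top_of_trace C.absIrred C.no_subfield F₀
    fun g hg => (hF₀ _).2 (h g hg)
  have hall : ∀ x : F, x ^ 2 ^ e = x := fun x => (hF₀ x).1 (htop ▸ Subfield.mem_top x)
  obtain ⟨x, hx⟩ := IsCyclic.exists_generator (α := Fˣ)
  have hox : orderOf x = 2 ^ f - 1 := by
    rw [orderOf_eq_card_of_forall_mem_zpowers hx, Nat.card_units, hf]
  have hd : orderOf x ∣ 2 ^ e - 1 := by
    rw [orderOf_dvd_iff_pow_eq_one]
    refine mul_left_cancel (a := x) ?_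
    rw [mul_one, ← pow_succ', Nat.sub_add_cancel Nat.one_le_two_pow]
    exact Units.ext (by simpa using hall x)
  rw [hox] at hd
  have h1 := Nat.pow_sub_one_gcd_pow_sub_one 2 f e
  rw [Nat.gcd_eq_left hd] at h1
  have h2 : 2 ^ f = 2 ^ f.gcd e := by
    have := Nat.one_le_two_pow (n := f)
    have := Nat.one_le_two_pow (n := f.gcd e)
    omega
  exact (Nat.pow_right_injective le_rfl h2) ▸ Nat.gcd_dvd_right f e

theorem Core4.one_lt (C : Core4 P) {f : ℕ} (hf : Nat.card F = 2 ^ f) (h4 : 4 ≤ Nat.card F)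
    (h : ∀ g ∈ P, tr4 g * tr4 g = tr4 g) : False := by
  have := C.dvd_of_traces (e := 1) hf fun g hg => by rw [pow_one, sq, h g hg]
  rw [Nat.dvd_one] at this
  rw [hf, this] at h4
  norm_num at h4

end Cfsg.Lib.SpFourResidual
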